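import Cfsg.Agent.H409.FprBasic

/-!
# The action of the alternating group on subsets: 2-elements with few fixed subsets
-/

set_option autoImplicit false
open Subgroup MulAction
open scoped Pointwise

namespace Cfsg.Agent.H435.Fpr

theorem le_choose {s j : ℕ} (h1 : 1 ≤ j) (h2 : j < s) : s ≤ s.choose j := by
  induction s generalizing j with
  | zero => omega
  | succ s ih =>
    obtain ⟨i, rfl⟩ : ∃ i, j = i + 1 := ⟨j - 1, by omega⟩
    rw [Nat.choose_succ_succ']
    have h3 : 1 ≤ s.choose i := Nat.choose_pos (by omega)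
    rcases Nat.lt_or_ge (i + 1) s with h | h
    · have := ih (j := i + 1) (by omega) h
      omega
    · have h4 : i + 1 = s := by omega
      rw [h4, Nat.choose_self]
      have h5 : s.choose i = s := by
        have : i = s - 1 := by omega
        rw [this, Nat.choose_symm (by omega), Nat.choose_one_right]
      omega

theorem three_choose {s j : ℕ} (h1 : 1 ≤ j) (h2 : j < s) :
    3 * s.choose j ≤ (2 * s).choose (2 * j) := by
  rcases Nat.lt_or_ge s 3 with h | h
  · have h3 : s = 2 := by omega
    have h4 : j = 1 := by omega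
    subst h3 h4
    decide
  · have h3 := le_choose h1 h2
    have h4 : s.choose j * s.choose j ≤ (2 * s).choose (2 * j) := by
      rw [two_mul s, Nat.add_choose_eq]
      have hmem : (j, j) ∈ (Finset.HasAntidiagonal.antidiagonal (2 * j) : Finset (ℕ × ℕ)) := by
        rw [Finset.HasAntidiagonal.mem_antidiagonal]
        change j + j = 2 * j
        omega
      exact Finset.single_le_sum (f := fun ij : ℕ × ℕ => s.choose ij.1 * s.choose ij.2)
        (fun _ _ => Nat.zero_le _) hmem
    nlinarith

theorem three_choose' {s ε k : ℕ} (hs : 2 ≤ s) (hε : ε ≤ 1) (hk : 1 ≤ k) (hk2 : k < 2 * s + ε)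
    (hpar : ε = 0 → Even k) : 3 * s.choose (k / 2) ≤ (2 * s + ε).choose k := by
  rcases Nat.even_or_odd k with he | ho
  · obtain ⟨j, rfl⟩ := he
    have h1 : (j + j) / 2 = j := by omega
    rw [h1, ← two_mul]
    rcases Nat.lt_or_ge j s with h | h
    · exact (three_choose (by omega) h).trans (Nat.choose_le_choose _ (by omega))
    · have h2 : j = s := by omega
      have h3 : ε = 1 := by omega
      subst h2 h3
      rw [Nat.choose_self, Nat.choose_symm_add (a := 2 * j) (b := 1), Nat.choose_one_right]
      omega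
  · obtain ⟨j, rfl⟩ := ho
    have hε1 : ε = 1 := by
      by_contra hne
      have h0 : ε = 0 := by omega
      have := hpar h0
      rw [Nat.even_iff] at this
      omega
    subst hε1
    have h1 : (2 * j + 1) / 2 = j := by omega
    rw [h1, Nat.choose_succ_succ']
    rcases Nat.eq_zero_or_pos j with h0 | h0
    · subst h0
      simp
      omega
    · have := three_choose h0 (show j < s by omega)
      omega

/-- A 2-element pairing up the points. -/
structure Pairing (n s ε : ℕ) (x : alternatingGroup (Fin n)) (e : (Fin s × Bool) ⊕ Fin ε ≃ Fin n) :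
    Prop where
  inv : ∀ A : Finset (Fin n), (∀ i, i ∈ A ↔ x • i ∈ A) → ∀ i : Fin s,
    (e (Sum.inl (i, true)) ∈ A ↔ e (Sum.inl (i, false)) ∈ A)
  two : ∃ k : ℕ, orderOf x = 2 ^ k

theorem exists_pairing {n s ε : ℕ} (hn : n = 2 * s + ε) (hs : 2 ≤ s) :
    ∃ (x : alternatingGroup (Fin n)) (e : (Fin s × Bool) ⊕ Fin ε ≃ Fin n), Pairing n s ε x e := by
  classical
  let e : (Fin s × Bool) ⊕ Fin ε ≃ Fin n := Fintype.equivFinOfCardEq (by simp; omega)
  let y : Equiv.Perm (Fin s × Bool) := Equiv.prodCongr (Equiv.refl _) Equiv.boolNot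
  let w : Equiv.Perm (Fin s × Bool) := Equiv.swap (⟨0, by omega⟩, false) (⟨1, by omega⟩, false)
  have hy2 : y * y = 1 := by
    ext ⟨a, b⟩ <;> simp [y]
  have hex : ∃ z : Equiv.Perm (Fin s × Bool), Equiv.Perm.sign z = 1 ∧ z ^ 4 = 1 ∧
      ∀ P : Fin s × Bool → Prop, (∀ a, P a ↔ P (z a)) → ∀ i, (P (i, true) ↔ P (i, false)) := by
    rcases Int.units_eq_one_or (Equiv.Perm.sign y) with h | h
    · refine ⟨y, h, ?_, ?_⟩
      · rw [show (4 : ℕ) = 2 + 2 from rfl, pow_add, pow_two, hy2, one_mul]
      · intro P hP i
        exact hP (i, true)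
    · have h0 : ∀ i : Fin s, i ≠ ⟨0, by omega⟩ → i ≠ ⟨1, by omega⟩ → ∀ b, (y * w) (i, b) = (i, !b) := by
        intro i h0 h1 b
        have : w (i, b) = (i, b) := by
          apply Equiv.swap_apply_of_ne_of_ne
          · intro h; exact h0 (Prod.mk.inj h).1
          · intro h; exact h1 (Prod.mk.inj h).1
        rw [Equiv.Perm.mul_apply, this]
        rfl
      have a1 : (y * w) (⟨0, by omega⟩, false) = (⟨1, by omega⟩, true) := by
        rw [Equiv.Perm.mul_apply, show w (⟨0, by omega⟩, false) = (⟨1, by omega⟩, false) from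
          Equiv.swap_apply_left _ _]
        rfl
      have a2 : (y * w) (⟨1, by omega⟩, true) = (⟨1, by omega⟩, false) := by
        rw [Equiv.Perm.mul_apply, show w (⟨1, by omega⟩, true) = (⟨1, by omega⟩, true) from
          Equiv.swap_apply_of_ne_of_ne (by simp) (by simp)]
        rfl
      have a3 : (y * w) (⟨1, by omega⟩, false) = (⟨0, by omega⟩, true) := by
        rw [Equiv.Perm.mul_apply, show w (⟨1, by omega⟩, false) = (⟨0, by omega⟩, false) from
          Equiv.swap_apply_right _ _]
        rfl
      have a4 : (y * w) (⟨0, by omega⟩, true) = (⟨0, by omega⟩, false) := by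
        rw [Equiv.Perm.mul_apply, show w (⟨0, by omega⟩, true) = (⟨0, by omega⟩, true) from
          Equiv.swap_apply_of_ne_of_ne (by simp) (by simp)]
        rfl
      refine ⟨y * w, ?_, ?_, ?_⟩
      · rw [Equiv.Perm.sign_mul, h, Equiv.Perm.sign_swap (by simp)]
        rfl
      · apply Equiv.ext
        rintro ⟨i, b⟩
        have h4 : ((y * w) ^ 4) (i, b) = (y * w) ((y * w) ((y * w) ((y * w) (i, b)))) := rfl
        rw [h4, Equiv.Perm.one_apply]
        by_cases hi0 : i = ⟨0, by omega⟩
        · subst hi0
          cases b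
          · rw [a1, a2, a3, a4]
          · rw [a4, a1, a2, a3]
        · by_cases hi1 : i = ⟨1, by omega⟩
          · subst hi1
            cases b
            · rw [a3, a4, a1, a2]
            · rw [a2, a3, a4, a1]
          · rw [h0 i hi0 hi1, h0 i hi0 hi1, h0 i hi0 hi1, h0 i hi0 hi1]
            simp
      · intro P hP i
        have b1 := hP (⟨0, by omega⟩, false)
        have b2 := hP (⟨1, by omega⟩, true)
        have b3 := hP (⟨1, by omega⟩, false)
        rw [a1] at b1
        rw [a2] at b2
        rw [a3] at b3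
        by_cases hi0 : i = ⟨0, by omega⟩
        · rw [hi0]; tauto
        · by_cases hi1 : i = ⟨1, by omega⟩
          · rw [hi1]; tauto
          · have := hP (i, true)
            rwa [h0 i hi0 hi1] at this
  obtain ⟨z, hzs, hz4, hzP⟩ := hex
  let Z : Equiv.Perm ((Fin s × Bool) ⊕ Fin ε) := Equiv.Perm.sumCongr z 1
  have hZs : Equiv.Perm.sign (e.permCongrHom Z) = 1 := by
    have h1 : Equiv.Perm.sign (e.permCongrHom Z) = Equiv.Perm.sign Z :=
      Equiv.Perm.sign_permCongr e Z
    rw [h1]
    change Equiv.Perm.sign (Equiv.Perm.sumCongr z 1) = 1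
    rw [Equiv.Perm.sign_sumCongr, hzs]
    simp
  refine ⟨⟨e.permCongrHom Z, Equiv.Perm.mem_alternatingGroup.2 hZs⟩, e, ⟨?_, ?_⟩⟩
  · intro A hA i
    refine hzP (fun a => e (Sum.inl a) ∈ A) ?_ i
    intro a
    rw [hA]
    change e (Z (e.symm (e (Sum.inl a)))) ∈ A ↔ _
    rw [e.symm_apply_apply]
    rfl
  · have h1 : orderOf (⟨e.permCongrHom Z, Equiv.Perm.mem_alternatingGroup.2 hZs⟩ :
        alternatingGroup (Fin n)) ∣ 2 ^ 2 := by
      apply orderOf_dvd_of_pow_eq_one
      apply Subtype.ext
      change (e.permCongrHom Z) ^ (2 ^ 2) = 1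
      rw [← map_pow]
      have : Z ^ (2 ^ 2) = 1 := by
        have h2 : ∀ k : ℕ, Z ^ k = Equiv.Perm.sumCongr (z ^ k) 1 := by
          intro k
          induction k with
          | zero => simp
          | succ k ih =>
            rw [pow_succ, ih, pow_succ]
            change _ * Equiv.Perm.sumCongr z 1 = _
            rw [Equiv.Perm.sumCongr_mul, one_mul]
        rw [h2]
        norm_num [hz4]
      rw [this, map_one]
    obtain ⟨k, -, hk⟩ := (Nat.dvd_prime_pow Nat.prime_two).1 h1
    exact ⟨k, hk⟩

/-- The number of `k`-sets fixed by `x`. -/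
theorem Pairing.card_le {n s ε : ℕ} {x : alternatingGroup (Fin n)}
    {e : (Fin s × Bool) ⊕ Fin ε ≃ Fin n} (h : Pairing n s ε x e) (hε : ε ≤ 1) (k : ℕ) :
    Nat.card (fixedBy (Set.powersetCard (Fin n) k) x) ≤ s.choose (k / 2) ∧
      (ε = 0 → ¬ Even k → Nat.card (fixedBy (Set.powersetCard (Fin n) k) x) = 0) := by
  classical
  have hA : ∀ A : fixedBy (Set.powersetCard (Fin n) k) x, ∀ i : Fin n,
      (i ∈ (A.1 : Finset (Fin n)) ↔ x • i ∈ (A.1 : Finset (Fin n))) := by
    rintro ⟨A, hA⟩ i
    have h1 : x • (A : Finset (Fin n)) = A := by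
      rw [← Set.powersetCard.coe_smul]
      exact congrArg (fun z : Set.powersetCard (Fin n) k => (z : Finset (Fin n))) hA
    constructor
    · intro hi
      rw [← h1]
      exact Finset.smul_mem_smul_finset hi
    · intro hi
      rw [← h1] at hi
      exact (Finset.smul_mem_smul_finset_iff x).1 hi
  let I : fixedBy (Set.powersetCard (Fin n) k) x → Finset (Fin s) := fun A =>
    Finset.univ.filter (fun i => e (Sum.inl (i, false)) ∈ (A.1 : Finset (Fin n)))
  let J : fixedBy (Set.powersetCard (Fin n) k) x → Finset (Fin ε) := fun A =>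
    Finset.univ.filter (fun i => e (Sum.inr i) ∈ (A.1 : Finset (Fin n)))
  have hcard : ∀ A, k = 2 * (I A).card + (J A).card := by
    intro A
    have h1 : ((A.1 : Finset (Fin n))).card = k := A.1.2
    have h2 : (A.1 : Finset (Fin n)) =
        ((I A ×ˢ (Finset.univ : Finset Bool)).disjSum (J A)).map e.toEmbedding := by
      ext j
      obtain ⟨a, rfl⟩ := e.surjective j
      rw [Finset.mem_map_equiv, e.symm_apply_apply]
      rcases a with ⟨i, b⟩ | i
      · rw [Finset.inl_mem_disjSum, Finset.mem_product]
        simp only [Finset.mem_univ, and_true, I, Finset.mem_filter, true_and]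
        cases b
        · rfl
        · exact h.inv _ (hA A) i
      · rw [Finset.inr_mem_disjSum]
        simp [J]
    rw [← h1, h2, Finset.card_map, Finset.card_disjSum, Finset.card_product, Finset.card_univ,
      Fintype.card_bool]
    ring
  have hJ : ∀ A, (J A).card ≤ ε := by
    intro A
    have := Finset.card_le_univ (J A)
    rwa [Fintype.card_fin] at this
  constructor
  · have hI : ∀ A, (I A).card = k / 2 := by
      intro A
      have h1 := hcard A
      have h2 := hJ A
      omega
    have h3 : Nat.card (Set.powersetCard (Fin s) (k / 2)) = s.choose (k / 2) := by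
      rw [Set.powersetCard.card, Nat.card_eq_fintype_card, Fintype.card_fin]
    rw [← h3]
    refine Nat.card_le_card_of_injective
      (fun A => (⟨I A, hI A⟩ : Set.powersetCard (Fin s) (k / 2))) ?_
    intro A A' hAA
    have h4 : I A = I A' := congrArg (fun z : Set.powersetCard (Fin s) (k / 2) => (z : Finset (Fin s))) hAA
    have h5 : J A = J A' := by
      have h6 := hcard A
      have h7 := hcard A'
      rw [h4] at h6
      have h8 : (J A).card = (J A').card := by omega
      have h9 : ε = 0 ∨ ε = 1 := by omega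
      rcases h9 with rfl | rfl
      · ext i
        exact i.elim0
      · ext i
        have hi : i = 0 := Subsingleton.elim _ _
        have k1 : ∀ K : Finset (Fin 1), i ∈ K ↔ K.card = 1 := by
          intro K
          rw [hi]
          revert K
          decide
        rw [k1, k1, h8]
    apply Subtype.ext
    apply Subtype.ext
    ext j
    obtain ⟨a, rfl⟩ := e.surjective j
    rcases a with ⟨i, b⟩ | i
    · have h6 : e (Sum.inl (i, false)) ∈ (A.1 : Finset (Fin n)) ↔
          e (Sum.inl (i, false)) ∈ (A'.1 : Finset (Fin n)) := by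
        have := congrArg (fun K : Finset (Fin s) => i ∈ K) h4
        simpa [I] using this
      cases b
      · exact h6
      · have h7 := h.inv _ (hA A) i
        have h8 := h.inv _ (hA A') i
        exact h7.trans (h6.trans h8.symm)
    · have := congrArg (fun K : Finset (Fin ε) => i ∈ K) h5
      simpa [J] using this
  · rintro rfl hk
    rw [Nat.card_eq_zero]
    left
    constructor
    intro A
    apply hk
    have h1 := hcard A
    have h2 := hJ A
    exact ⟨(I A).card, by omega⟩

theorem row_sets {n k : ℕ} (hn : 5 ≤ n) (hk : 1 ≤ k) (hkn : k < n) :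
    ∃ x : alternatingGroup (Fin n), (∃ k : ℕ, orderOf x = 2 ^ k) ∧
      3 * Nat.card (fixedBy (Set.powersetCard (Fin n) k) x) ≤
        1 * Nat.card (Set.powersetCard (Fin n) k) := by
  obtain ⟨x, e, h⟩ := exists_pairing (n := n) (s := n / 2) (ε := n % 2) (by omega) (by omega)
  refine ⟨x, h.two, ?_⟩
  have hcard : Nat.card (Set.powersetCard (Fin n) k) = n.choose k := by
    rw [Set.powersetCard.card, Nat.card_eq_fintype_card, Fintype.card_fin]
  obtain ⟨h1, h2⟩ := h.card_le (by omega) k
  rw [hcard, one_mul]
  by_cases hpar : n % 2 = 0 → Even k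
  · have h3 := three_choose' (s := n / 2) (ε := n % 2) (k := k) (by omega) (by omega) hk (by omega)
      hpar
    have h4 : 2 * (n / 2) + n % 2 = n := by omega
    rw [h4] at h3
    omega
  · push Not at hpar
    rw [h2 hpar.1 (by simpa using hpar.2)]
    simp

end Cfsg.Agent.H435.Fpr
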