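import Cfsg.Agent.H435.Fpr.AltTrans
import Cfsg.Agent.H435.Fpr.AltSets

/-!
# The row of the alternating groups for `p = 2`
-/

set_option autoImplicit false
open Subgroup MulAction
open scoped Pointwise

namespace Cfsg.Agent.H435.Fpr

/-- Every proper subgroup `H` of `A_n` (`n ≥ 5`) admits a 2-element fixing at most one third of
the cosets of `H`. -/
theorem fprRow_alternating_two {n : ℕ} (hn : 5 ≤ n) :
    Cfsg.Agent.H409.FprRow 3 1 2 (alternatingGroup (Fin n)) := by
  classical
  intro H hH
  by_cases ht : IsPretransitive H (Fin n)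
  · exact row_trans hn hH
  · have hn0 : 0 < n := by omega
    let p : Fin n := ⟨0, hn0⟩
    obtain ⟨A, hA⟩ : ∃ A : Finset (Fin n), (A : Set (Fin n)) = orbit H p :=
      ⟨(Set.toFinite (orbit H p)).toFinset, by simp⟩
    have hA1 : 1 ≤ A.card := by
      rw [Nat.one_le_iff_ne_zero, ← Nat.pos_iff_ne_zero, Finset.card_pos]
      refine ⟨p, ?_⟩
      rw [← Finset.mem_coe, hA]
      exact mem_orbit_self _
    have hAn : A.card < n := by
      by_contra hcon
      have h1 : A = Finset.univ := by
        rw [← Finset.card_eq_iff_eq_univ, Fintype.card_fin]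
        have := Finset.card_le_univ A
        rw [Fintype.card_fin] at this
        omega
      apply ht
      rw [MulAction.isPretransitive_iff_base p]
      intro j
      have h2 : j ∈ (A : Set (Fin n)) := by rw [h1]; simp
      rw [hA] at h2
      obtain ⟨h, hh⟩ := h2
      exact ⟨h, hh⟩
    obtain ⟨x, hx, hle⟩ := row_sets hn hA1 hAn
    refine ⟨x, hx, ?_⟩
    let A0 : Set.powersetCard (Fin n) A.card := ⟨A, rfl⟩
    have hstab : ∀ h : alternatingGroup (Fin n), h ∈ H → h • A0 = A0 := by
      intro h hh
      apply Subtype.ext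
      change h • A = A
      apply Finset.coe_injective
      rw [Finset.coe_smul_finset, hA]
      exact smul_orbit (⟨h, hh⟩ : H) p
    let φ : (alternatingGroup (Fin n) ⧸ H) → Set.powersetCard (Fin n) A.card :=
      Quotient.lift (fun g => g • A0) (by
        intro g g' hg
        have h1 : g⁻¹ * g' ∈ H := QuotientGroup.leftRel_apply.1 hg
        have h2 := hstab _ h1
        rw [mul_smul, inv_smul_eq_iff] at h2
        exact h2.symm)
    have : IsPretransitive (alternatingGroup (Fin n)) (Set.powersetCard (Fin n) A.card) :=
      Set.powersetCard.isPretransitive_alternatingGroup (by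
        rw [Nat.card_eq_fintype_card, Fintype.card_fin]; omega)
    refine Cfsg.Agent.H409.fix_le_of_map (MonoidHom.id _) Function.surjective_id φ ?_ x hle
    intro g ω
    obtain ⟨w, rfl⟩ := QuotientGroup.mk_surjective ω
    change (g * w) • A0 = g • w • A0
    rw [mul_smul]

end Cfsg.Agent.H435.Fpr
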