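import Cfsg.Agent.H604.Cop.Conway
import Cfsg.Agent.H444.FprTable
import Cfsg.Agent.H398.FPR.Tools
import Cfsg.Agent.H394.SqBasic

/-!
# Elements of order `11` of `Co2`

`uGood_eleven`: the fixed point ratios are at most `1 / 6`; `exists_real`: one of them is inverted by an
involution.
-/

set_option autoImplicit false
open Subgroup MulAction
open scoped Pointwise

namespace Cfsg.Agent.H435.Fpr.CoTwo

open Cfsg.Agent.H398.FPR (UGood)
open Cfsg.Agent.H444.Fpr (Known exists_sylow)
open Cfsg.Agent.H604.Cop.Conway (self_co2 inc2 inc2_injective)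

theorem card_co2 : Nat.card Spor.Co2 = 42305421312000 := Cfsg.Agent.H49.CoStab.card_co2

instance finite_co2 : Finite Spor.Co2 := Cfsg.Agent.H49.CoStab.finite_co2

theorem known : Known Spor.Co2 23 1 11 := by
  have h23 : Fact (Nat.Prime 23) := ⟨by norm_num⟩
  obtain ⟨z, hz⟩ := exists_prime_orderOf_dvd_card' (G := Spor.Co2) 23 (by rw [card_co2]; norm_num)
  exact Known.of_cent (N := 42305421312000) (by norm_num) card_co2 (by norm_num) (by norm_num) hz
    (self_co2 z hz) (by decide +kernel)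

/-- transfer to the generators of conjugate subgroups -/
theorem uGood_transfer {S : Type*} [Group S] [Finite S] {a b r : ℕ} [Fact r.Prime]
    (hsq : ¬ r * r ∣ Nat.card S) {y y' : S} (hy : orderOf y = r) (hy' : orderOf y' = r)
    (h : UGood a b y) : UGood a b y' := by
  obtain ⟨R, hR⟩ := exists_sylow hsq hy
  obtain ⟨R', hR'⟩ := exists_sylow hsq hy'
  obtain ⟨g, hg⟩ := exists_smul_eq S R' R
  have h1 : g * y' * g⁻¹ ∈ zpowers y := by
    have h2 : g * y' * g⁻¹ ∈ ((g • R' : Sylow r S) : Subgroup S) := by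
      rw [Sylow.coe_subgroup_smul, mem_smul_pointwise_iff_exists]
      exact ⟨y', by rw [hR']; exact mem_zpowers y', rfl⟩
    rw [hg, hR] at h2
    exact h2
  have h2 : orderOf (g * y' * g⁻¹) = r := by
    rw [← hy']
    exact orderOf_injective (MulAut.conj g).toMonoidHom (MulAut.conj g).injective y'
  have h3 : y ∈ zpowers (g * y' * g⁻¹) := by
    have h4 : zpowers (g * y' * g⁻¹) = zpowers y := by
      apply Subgroup.eq_of_le_of_card_ge ((zpowers_le).2 h1)
      rw [Nat.card_zpowers, Nat.card_zpowers, hy, h2]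
    rw [h4]
    exact mem_zpowers y
  intro H hH
  refine le_trans (Nat.mul_le_mul_left _ ?_) (h H hH)
  refine Nat.card_le_card_of_injective (fun ω : fixedBy (S ⧸ H) y' =>
    (⟨g • (ω : S ⧸ H), ?_⟩ : fixedBy (S ⧸ H) y)) ?_
  · have h4 : zpowers (g * y' * g⁻¹) ≤ stabilizer S (g • (ω : S ⧸ H)) := by
      rw [zpowers_le, mem_stabilizer_iff, smul_smul, inv_mul_cancel_right, mul_smul]
      congr 1
      exact ω.2
    exact h4 h3
  · intro ω ω' hω
    have h4 : g • (ω : S ⧸ H) = g • (ω' : S ⧸ H) := congrArg Subtype.val hω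
    exact Subtype.ext (smul_left_cancel g h4)

theorem uGood_eleven {y : Spor.Co2} (hy : orderOf y = 11) : UGood 1 6 y := by
  have h11 : Fact (Nat.Prime 11) := ⟨by norm_num⟩
  have hs := Cfsg.Agent.H49.CoStab.simple_co2
  obtain ⟨y0, ⟨k, hk⟩, hy0⟩ := known.bound (p := 11) (by norm_num) (by norm_num) (by norm_num)
  have hU : UGood 1 6 y0 := by
    intro H hH
    obtain ⟨f, u, s, h1, h2, h3, h4, -⟩ := hy0 (Spor.Co2 ⧸ H)
    rw [h1]
    have h5 := Cfsg.Agent.H394.SqBasic.le_index_of_prime_dvd hH (p := 23) (by norm_num)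
      (by rw [card_co2]; norm_num)
    have h6 : Nat.card (Spor.Co2 ⧸ H) = H.index := rfl
    rw [← h6] at h5
    rcases Nat.eq_zero_or_pos u with h7 | h7
    · omega
    · have h8 := h4 h7.ne'
      have h9 := Nat.le_of_dvd (by norm_num) h8
      omega
  have hk0 : k ≠ 0 := by
    rintro rfl
    rw [pow_zero, orderOf_eq_one_iff] at hk
    rw [hk] at hU
    have h1 := hU ⊥ (by
      intro h
      obtain ⟨z, hz⟩ := exists_prime_orderOf_dvd_card' (G := Spor.Co2) 11 (by rw [card_co2]; norm_num)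
      have h2 : z ∈ (⊥ : Subgroup Spor.Co2) := by rw [h]; trivial
      rw [mem_bot] at h2
      rw [h2, orderOf_one] at hz
      norm_num at hz)
    have h2 : Nat.card (fixedBy (Spor.Co2 ⧸ (⊥ : Subgroup Spor.Co2)) (1 : Spor.Co2)) =
        Nat.card (Spor.Co2 ⧸ (⊥ : Subgroup Spor.Co2)) := by
      rw [Nat.card_coe_set_eq, fixedBy_one_eq_univ, Set.ncard_univ]
    have h3 : 0 < Nat.card (Spor.Co2 ⧸ (⊥ : Subgroup Spor.Co2)) := Nat.card_pos
    omega
  have hk1 : k = 1 := by
    by_contra hk1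
    have h1 : 11 ^ 2 ∣ Nat.card Spor.Co2 := by
      refine dvd_trans (pow_dvd_pow 11 (show 2 ≤ k by omega)) ?_
      rw [← hk]
      exact orderOf_dvd_natCard y0
    rw [card_co2] at h1
    norm_num at h1
  rw [hk1, pow_one] at hk
  exact uGood_transfer (r := 11) (by rw [card_co2]; norm_num) hk hy hU


/-- tables: `i ↦ 2 i` and `i ↦ -1 / i` -/
def Fy : List ℕ := [0, 2, 4, 6, 8, 10, 12, 14, 16, 18, 20, 22, 1, 3, 5, 7, 9, 11, 13, 15, 17, 19, 21, 23]
def Gy : List ℕ := [0, 12, 1, 13, 2, 14, 3, 15, 4, 16, 5, 17, 6, 18, 7, 19, 8, 20, 9, 21, 10, 22, 11, 23]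
def Ft : List ℕ := [23, 22, 11, 15, 17, 9, 19, 13, 20, 5, 16, 2, 21, 7, 18, 3, 10, 4, 14, 6, 8, 12, 1, 0]

open Cfsg Cfsg.Agent.SporadicA.GolayBase Cfsg.Agent.SporadicStructure.TabPerm
open Cfsg.Agent.SporadicA.Co0Mono (permCo0 permCo0_smul permMap_apply)

theorem chky : chk Fy Gy = true := by decide +kernel
theorem chkt : chk Ft Ft = true := by decide +kernel

def py : M24 := ⟨tabPerm Fy Gy chky, tabPerm_mem_M24 _ _ _ (by decide +kernel)⟩
def pt' : M24 := ⟨tabPerm Ft Ft chkt, tabPerm_mem_M24 _ _ _ (by decide +kernel)⟩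

theorem py_pow : py ^ 11 = 1 := by
  apply Subtype.ext
  apply Equiv.ext
  have h : ∀ p : GolayPt, ((tabPerm Fy Gy chky) ^ 11 : Equiv.Perm GolayPt) p = p := by
    decide +kernel
  exact h

theorem pt_sq : pt' ^ 2 = 1 := by
  apply Subtype.ext
  apply Equiv.ext
  have h : ∀ p : GolayPt, ((tabPerm Ft Ft chkt) ^ 2 : Equiv.Perm GolayPt) p = p := by
    decide +kernel
  exact h

theorem py_ne : py ≠ 1 := by
  intro h
  have h1 : (tabPerm Fy Gy chky) (pt 1) = pt 1 := by
    have := congrArg (fun z : M24 => (z : Equiv.Perm GolayPt) (pt 1)) h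
    exact this
  revert h1
  decide +kernel

theorem py_inv : pt' * py * pt'⁻¹ = py⁻¹ := by
  apply Subtype.ext
  apply Equiv.ext
  have h : ∀ p : GolayPt, ((tabPerm Ft Ft chkt) * (tabPerm Fy Gy chky) * (tabPerm Ft Ft chkt)⁻¹ :
      Equiv.Perm GolayPt) p = ((tabPerm Fy Gy chky)⁻¹ : Equiv.Perm GolayPt) p := by
    decide +kernel
  exact h

theorem fixU {σ : M24} (h : ∀ p : GolayPt, Spor.vecU ((σ : Equiv.Perm GolayPt).symm p) = Spor.vecU p) :
    permCo0 σ • Spor.leechU = Spor.leechU := by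
  apply Subtype.ext
  funext p
  exact h p

/-- elements of `Co2` from `M24` -/
def elt (σ : M24) (h : ∀ p : GolayPt, Spor.vecU ((σ : Equiv.Perm GolayPt).symm p) = Spor.vecU p) :
    Spor.Co2 :=
  ⟨(permCo0 σ : Equiv.Perm leechLattice), (permCo0 σ).2, fixU h⟩

theorem inc2_elt (σ : M24) (h) : inc2 (elt σ h) = permCo0 σ := rfl

theorem fy (p : GolayPt) : Spor.vecU ((py : Equiv.Perm GolayPt).symm p) = Spor.vecU p := by
  have h : ∀ p : GolayPt, Spor.vecU ((tabPerm Fy Gy chky).symm p) = Spor.vecU p := by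
    decide +kernel
  exact h p

theorem ft (p : GolayPt) : Spor.vecU ((pt' : Equiv.Perm GolayPt).symm p) = Spor.vecU p := by
  have h : ∀ p : GolayPt, Spor.vecU ((tabPerm Ft Ft chkt).symm p) = Spor.vecU p := by
    decide +kernel
  exact h p

open Cfsg.Agent.SporadicA in
theorem permCo0_inj : Function.Injective permCo0 := by
  rw [injective_iff_map_eq_one]
  intro σ hσ
  apply Subtype.ext
  apply Equiv.ext
  intro i
  have h1 : (permCo0 σ) • Co0Basic.e8 i = Co0Basic.e8 i := by rw [hσ, one_smul]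
  have h2 := congrArg (fun v : leechLattice => (v : GolayPt → ℤ) ((σ : Equiv.Perm GolayPt) i)) h1
  rw [permCo0_smul, permMap_apply, Equiv.symm_apply_apply, Co0Basic.e8_apply,
    Co0Basic.e8_apply] at h2
  by_contra hne
  have hne' : ¬ (σ : Equiv.Perm GolayPt) i = i := hne
  rw [if_pos rfl, if_neg hne'] at h2
  norm_num at h2

/-- an element of order `11` inverted by an involution -/
theorem exists_real : ∃ x y : Spor.Co2, orderOf y = 11 ∧ (∃ k : ℕ, orderOf x = 2 ^ k) ∧
    x * y * x⁻¹ = y⁻¹ := by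
  have h11 : Fact (Nat.Prime 11) := ⟨by norm_num⟩
  refine ⟨elt pt' ft, elt py fy, ?_, ?_, ?_⟩
  · apply orderOf_eq_prime
    · apply inc2_injective
      rw [map_pow, inc2_elt, map_one, ← map_pow, py_pow, map_one]
    · intro h
      have h1 := congrArg inc2 h
      rw [inc2_elt, map_one] at h1
      exact py_ne (permCo0_inj (h1.trans (map_one _).symm))
  · have h : elt pt' ft ^ 2 = 1 := by
      apply inc2_injective
      rw [map_pow, inc2_elt, map_one, ← map_pow, pt_sq, map_one]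
    obtain ⟨k, -, hk⟩ := (Nat.dvd_prime_pow Nat.prime_two).1
      (orderOf_dvd_of_pow_eq_one (n := 2 ^ 1) (by rw [pow_one]; exact h))
    exact ⟨k, hk⟩
  · apply inc2_injective
    rw [map_mul, map_mul, map_inv, map_inv, inc2_elt, inc2_elt, ← map_inv, ← map_inv, ← map_mul,
      ← map_mul, py_inv]

end Cfsg.Agent.H435.Fpr.CoTwo
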