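import Cfsg.Agent.H435.Fpr.ExcThreeD4
import Cfsg.Agent.H448.FprMers.D4TwoRow
import Cfsg.Agent.H448.FprExc.RowD4
import Cfsg.Agent.H400.FprD4F

/-!
# Fixed point ratios: all rows of `³D₄(q)`
-/

set_option autoImplicit false

namespace Cfsg.Agent.H435.Fpr.D4Row

open Cfsg.Lie
open Cfsg.Agent.H409 (FprRow)
open Cfsg.Agent.H398.FPR (UGood Good)
open Cfsg.Agent.H400.Fpr Cfsg.Agent.H400.Fpr.D4

universe u

/-! ### Arithmetic -/

theorem zmod_three : ∀ y : ZMod 3, y ≠ 0 → y ^ 2 = 1 := by decide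

/-- the orders -/
theorem cases_3D4 {q p : ℕ} [hp : Fact p.Prime] (hq : 1 < q) (hpq : ¬ p ∣ q)
    (hd : p ∣ q ^ 12 * (q ^ 2 - 1) * (q ^ 6 - 1) * (q ^ 8 + q ^ 4 + 1)) :
    p ∣ q ^ 2 - 1 ∨ p ∣ q ^ 2 + q + 1 ∨ p ∣ q ^ 2 - q + 1 ∨ orderOf (q : ZMod p) = 12 := by
  obtain ⟨x, hx⟩ : ∃ x : ZMod p, x = (q : ZMod p) := ⟨_, rfl⟩
  have hx0 : x ≠ 0 := by
    rw [hx, Ne, ZMod.natCast_eq_zero_iff]
    exact hpq
  have h2 : 1 ≤ q ^ 2 := Nat.one_le_pow _ _ (by omega)
  have h6 : 1 ≤ q ^ 6 := Nat.one_le_pow _ _ (by omega)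
  have hqq : q ≤ q ^ 2 := Nat.le_self_pow (by norm_num) q
  have hz : x ^ 12 * (x ^ 2 - 1) * (x ^ 6 - 1) * (x ^ 8 + x ^ 4 + 1) = 0 := by
    have := (ZMod.natCast_eq_zero_iff _ p).2 hd
    push_cast [Nat.cast_sub h2, Nat.cast_sub h6] at this
    rw [← hx] at this
    exact this
  have k1 : p ∣ q ^ 2 - 1 ↔ x ^ 2 = 1 := by
    rw [← ZMod.natCast_eq_zero_iff]
    push_cast [Nat.cast_sub h2]
    rw [← hx, sub_eq_zero]
  have k2 : p ∣ q ^ 2 + q + 1 ↔ x ^ 2 + x + 1 = 0 := by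
    rw [← ZMod.natCast_eq_zero_iff]
    push_cast
    rw [← hx]
  have k3 : p ∣ q ^ 2 - q + 1 ↔ x ^ 2 - x + 1 = 0 := by
    rw [← ZMod.natCast_eq_zero_iff]
    push_cast [Nat.cast_sub hqq]
    rw [← hx]
  rw [k1, k2, k3]
  by_contra hcon
  push Not at hcon
  obtain ⟨c1, c2, c3, c4⟩ := hcon
  have e6 : x ^ 6 ≠ 1 := by
    intro h
    have h3 : (x ^ 2 - 1) * ((x ^ 2 + x + 1) * (x ^ 2 - x + 1)) = 0 := by linear_combination h
    rcases mul_eq_zero.1 h3 with h4 | h4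
    · exact c1 (sub_eq_zero.1 h4)
    · rcases mul_eq_zero.1 h4 with h5 | h5
      · exact c2 h5
      · exact c3 h5
  have e8 : x ^ 8 + x ^ 4 + 1 = 0 := by
    rcases mul_eq_zero.1 hz with h3 | h3
    · exfalso
      rcases mul_eq_zero.1 h3 with h4 | h4
      · rcases mul_eq_zero.1 h4 with h5 | h5
        · exact pow_ne_zero 12 hx0 h5
        · exact c1 (sub_eq_zero.1 h5)
      · exact e6 (sub_eq_zero.1 h4)
    · exact h3
  have e12 : x ^ 12 = 1 := by linear_combination (x ^ 4 - 1) * e8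
  apply c4
  rw [← hx]
  have hdv := orderOf_dvd_of_pow_eq_one e12
  have hdiv : ∀ n : ℕ, n ∣ 12 → n = 12 ∨ n ∣ 6 ∨ n ∣ 4 := by
    intro n hn
    have : n ≤ 12 := Nat.le_of_dvd (by norm_num) hn
    interval_cases n <;> revert hn <;> decide
  rcases hdiv _ hdv with h | h | h
  · exact h
  · exact absurd (orderOf_dvd_iff_pow_eq_one.1 h) e6
  · exfalso
    have e4 := orderOf_dvd_iff_pow_eq_one.1 h
    have h3 : (3 : ZMod p) = 0 := by linear_combination e8 - (x ^ 4 + 2) * e4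
    have h3' : p ∣ 3 := by
      rw [← ZMod.natCast_eq_zero_iff]
      exact_mod_cast h3
    have hp3 : p = 3 := (Nat.prime_dvd_prime_iff_eq hp.out Nat.prime_three).1 h3'
    subst hp3
    exact c1 (zmod_three x hx0)

theorem mod_pow {p k : ℕ} (hk : 2 ^ k = p + 1) (a : ℕ) : 2 ^ a ≡ 2 ^ (a % k) [MOD p] := by
  have h1 : 2 ^ k ≡ 1 [MOD p] := by
    rw [hk]
    exact Nat.add_modEq_left
  calc 2 ^ a = 2 ^ (k * (a / k) + a % k) := by rw [Nat.div_add_mod]
    _ = (2 ^ k) ^ (a / k) * 2 ^ (a % k) := by rw [pow_add, pow_mul]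
    _ ≡ 1 ^ (a / k) * 2 ^ (a % k) [MOD p] := (h1.pow _).mul_right _
    _ = _ := by rw [one_pow, one_mul]

/-- a Mersenne prime dividing `q + 1`, `q` a power of two, is `3` -/
theorem mers_add {p a k : ℕ} (hp1 : 1 < p) (hk : 2 ^ k = p + 1) (hd : p ∣ 2 ^ a + 1) : p = 3 := by
  have hk0 : k ≠ 0 := by rintro rfl; simp at hk; omega
  have hk1 : k ≠ 1 := by rintro rfl; simp at hk; omega
  have hk2 : 2 ≤ k := by omega
  have h2 : p ∣ 2 ^ (a % k) + 1 := by
    have h3 := (mod_pow hk a).add_right 1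
    exact (Nat.modEq_zero_iff_dvd.1 (h3.symm.trans (Nat.modEq_zero_iff_dvd.2 hd)))
  have h4 : a % k ≤ k - 1 := by
    have := Nat.mod_lt a (by omega : 0 < k)
    omega
  have h5 : 2 ^ (a % k) ≤ 2 ^ (k - 1) := Nat.pow_le_pow_right (by norm_num) h4
  have h6 : 2 ^ k = 2 * 2 ^ (k - 1) := by
    obtain ⟨j, rfl⟩ : ∃ j, k = j + 1 := ⟨k - 1, by omega⟩
    rw [Nat.add_sub_cancel, pow_succ, mul_comm]
  have h7 := Nat.le_of_dvd (by positivity) h2
  have h8 : 2 ^ (k - 1) ≤ 2 := by omega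
  have h9 : k - 1 ≤ 1 := by
    by_contra h
    push Not at h
    have : 2 ^ 2 ≤ 2 ^ (k - 1) := Nat.pow_le_pow_right (by norm_num) h
    omega
  have : k = 2 := by omega
  subst this
  omega

/-- a Mersenne prime dividing `q² + q + 1`, `q` a power of two, is `3` or `7` -/
theorem mers_three {p a k : ℕ} (hp : p.Prime) (hk : 2 ^ k = p + 1)
    (hd : p ∣ (2 ^ a) ^ 2 + 2 ^ a + 1) : p = 3 ∨ p = 7 := by
  have hk1 : k ≠ 1 := by
    rintro rfl
    have := hp.two_le
    omega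
  have hkp : k.Prime := by
    have h1 : (2 ^ k - 1).Prime := by rw [hk, Nat.add_sub_cancel]; exact hp
    exact (Nat.prime_of_pow_sub_one_prime hk1 h1).2
  -- `k` divides `3 a`
  have h1 : 2 ^ (3 * a) ≡ 1 [MOD p] := by
    obtain ⟨c, hc⟩ := hd
    have h2 : 1 ≤ 2 ^ (3 * a) := Nat.one_le_two_pow
    refine ((Nat.modEq_iff_dvd' h2).2 ⟨c * (2 ^ a - 1), ?_⟩).symm
    have h3 : 1 ≤ 2 ^ a := Nat.one_le_two_pow
    rw [← mul_assoc, ← hc, mul_comm 3 a, pow_mul]
    obtain ⟨x, hx⟩ : ∃ x, 2 ^ a = x + 1 := ⟨2 ^ a - 1, by omega⟩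
    rw [hx, Nat.add_sub_cancel]
    have : (x + 1) ^ 3 = ((x + 1) ^ 2 + (x + 1) + 1) * x + 1 := by ring
    rw [this, Nat.add_sub_cancel]
  have h2 : 2 ^ (3 * a % k) ≡ 1 [MOD p] := (mod_pow hk (3 * a)).symm.trans h1
  have h3 : 3 * a % k < k := Nat.mod_lt _ hkp.pos
  have h4 : 2 ^ (3 * a % k) < 2 ^ k := Nat.pow_lt_pow_right (by norm_num) h3
  have h5 : 3 * a % k = 0 := by
    by_contra h0
    have h6 : 2 ^ 1 ≤ 2 ^ (3 * a % k) := Nat.pow_le_pow_right (by norm_num) (by omega)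
    have h7 := (Nat.modEq_iff_dvd' (show 1 ≤ 2 ^ (3 * a % k) by omega)).1 h2.symm
    have h8 := Nat.le_of_dvd (by omega) h7
    have h9 : 2 ^ (3 * a % k) = p + 1 := by omega
    omega
  have h6 : k ∣ 3 * a := Nat.dvd_of_mod_eq_zero h5
  rcases (Nat.Prime.dvd_mul hkp).1 h6 with h7 | h7
  · right
    have h8 := (Nat.prime_dvd_prime_iff_eq hkp Nat.prime_three).1 h7
    subst h8
    omega
  · left
    have h8 : 2 ^ a ≡ 1 [MOD p] := by
      have h9 := mod_pow hk a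
      rwa [Nat.mod_eq_zero_of_dvd h7, pow_zero] at h9
    have h9 : (2 ^ a) ^ 2 + 2 ^ a + 1 ≡ 1 ^ 2 + 1 + 1 [MOD p] := ((h8.pow 2).add h8).add_right 1
    have h10 : p ∣ 3 := Nat.modEq_zero_iff_dvd.1 (h9.symm.trans (Nat.modEq_zero_iff_dvd.2 hd))
    exact (Nat.prime_dvd_prime_iff_eq hp Nat.prime_three).1 h10

/-! ### The rows -/

section

variable {K : Type u} [Field K] [Fintype K] {q : ℕ}

/-- the Frobenius map -/
theorem exists_frob (hq : IsPrimePow q) (hK : Fintype.card K = q ^ 3) :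
    ∃ (r f : ℕ) (_ : Fact r.Prime) (_ : CharP K r) (φ : K →+* K), q = r ^ f ∧ f ≠ 0 ∧ ∀ x, φ x = x ^ q := by
  obtain ⟨r, f, hr, hf, hqr⟩ := hq
  have hr' : r.Prime := hr.nat_prime
  have : Fact r.Prime := ⟨hr'⟩
  have hch : CharP K r := by
    obtain ⟨p, hp⟩ := CharP.exists K
    have hpp : Fact p.Prime := ⟨(CharP.char_is_prime_or_zero K p).resolve_right (CharP.char_ne_zero_of_finite K p)⟩
    obtain ⟨n, hn, hn2⟩ := FiniteField.card K p
    have h1 : r ∣ p ^ (n : ℕ) := by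
      rw [← hn2, hK, ← hqr]
      exact (dvd_pow_self r hf.ne').trans (dvd_pow_self _ (by norm_num))
    have h2 := (Nat.prime_dvd_prime_iff_eq hr' hpp.out).1 (hr'.dvd_of_dvd_pow h1)
    rwa [h2]
  refine ⟨r, f, this, hch, iterateFrobenius K r f, hqr.symm, hf.ne', fun x => ?_⟩
  rw [iterateFrobenius_def, hqr]

theorem no_pow {r p : ℕ} (hr : r.Prime) (hr2 : r ≠ 2) (hp : p.Prime) (hp2 : p ≠ 2) (t : ℕ) : r ^ t ≠ p + 1 := by
  intro h
  have h1 : Odd (r ^ t) := (hr.odd_of_ne_two hr2).pow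
  rw [h] at h1
  have h2 := hp.odd_of_ne_two hp2
  exact (Nat.not_even_iff_odd.2 h1) (h2.add_odd odd_one)

/-- the sharp ratio from two radicals -/
theorem sharp_of {G : Type*} [Group G] [Finite G] {p r : ℕ} (hp : p.Prime) (hr : r.Prime)
    (hne : ∀ t : ℕ, r ^ t ≠ p + 1) (h : TwoPair G p 0 r) : Good 1 (p + 1) p G := by
  obtain ⟨x, k, R1, R2, hx, h1, h2, h3, h4, h5⟩ := h
  exact T3_sharp_good hp hr hne hx h1 h2 h3 h4 (closure_eq_top h5)

theorem center_bot {G : Type*} [Group G] (hs : IsSimpleGroup G) (h : ¬ IsMulCommutative G) :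
    Subgroup.center G = ⊥ := by
  rcases hs.eq_bot_or_eq_top_of_normal (Subgroup.center G) inferInstance with h1 | h1
  · exact h1
  · exfalso
    apply h
    refine ⟨⟨fun a b => ?_⟩⟩
    have h2 : a ∈ Subgroup.center G := by rw [h1]; trivial
    exact (Subgroup.mem_center_iff.1 h2 b).symm

/-- **All rows of S3578 for `³D₄(q)`**; `h7` is the row `p = 7`, `q ≥ 4` even. -/
theorem row_sharp' (h7 : ∀ (φ : K →+* K), (∀ x, φ x = x ^ q) → CharP K 2 → 4 ≤ q → 7 ∣ q ^ 2 + q + 1 →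
      FprRow (7 + 1) 1 7 ↥(twistedD4 K q))
    (hq : IsPrimePow q) (hK : Fintype.card K = q ^ 3) {p : ℕ} [hp : Fact p.Prime] (hch : (p : K) ≠ 0)
    (hpG : p ∣ Nat.card ↥(twistedD4 K q)) : FprRow (p + 1) 1 p ↥(twistedD4 K q) := by
  obtain ⟨r, f, hr, hchar, φ, hqr, hf, hφ⟩ := exists_frob hq hK
  have hq1 : 1 < q := hq.one_lt
  have hs : IsSimpleGroup ↥(twistedD4 K q) := (Cfsg.Agent.S1071.result hq hK).1
  have hcen := center_bot hs (Cfsg.Agent.S1071.result hq hK).2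
  have hpr : p ≠ r := by
    rintro rfl
    exact hch (CharP.cast_eq_zero K p)
  have hpq : ¬ p ∣ q := by
    intro h
    rw [hqr] at h
    exact hpr ((Nat.prime_dvd_prime_iff_eq hp.out hr.out).1 (hp.out.dvd_of_dvd_pow h))
  by_cases hp2 : p = 2
  · subst hp2
    exact (twoPair_two hs hK hφ hq1 r (fun h => hpr h.symm)).good' Nat.prime_two le_rfl
  rw [Cfsg.Agent.S1067.result hq hK] at hpG
  have hqq : q ≤ q ^ 2 := Nat.le_self_pow (by norm_num) q
  -- `p = 3` divides `q ^ 2 - 1`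
  have hp3 : p = 3 → p ∣ q ^ 2 - 1 := by
    rintro rfl
    have h1 : q % 3 = 1 ∨ q % 3 = 2 := by omega
    have h2 : q ^ 2 % 3 = 1 := by
      rcases h1 with h1 | h1 <;> rw [Nat.pow_mod, h1]
    have h3 : 1 ≤ q ^ 2 := by omega
    omega
  have hcase : p ∣ q ^ 2 - 1 ∨ (p ≠ 3 ∧ p ∣ q ^ 2 + q + 1) ∨ (p ≠ 3 ∧ p ∣ q ^ 2 - q + 1) ∨
      orderOf (q : ZMod p) = 12 := by
    by_cases h3 : p = 3
    · exact Or.inl (hp3 h3)
    · rcases cases_3D4 hq1 hpq hpG with h | h | h | h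
      · exact Or.inl h
      · exact Or.inr (Or.inl ⟨h3, h⟩)
      · exact Or.inr (Or.inr (Or.inl ⟨h3, h⟩))
      · exact Or.inr (Or.inr (Or.inr h))
  have hfact : p ∣ q ^ 2 - 1 → p ∣ q - 1 ∨ p ∣ q + 1 := by
    intro h
    have h1 : q ^ 2 - 1 = (q + 1) * (q - 1) := by
      have := Nat.sq_sub_sq q 1
      rwa [one_pow] at this
    rw [h1] at h
    exact ((Nat.Prime.dvd_mul hp.out).1 h).symm
  have hsix : p ≠ 3 → p ∣ q ^ 2 - q + 1 → FprRow (p + 1) 1 p ↥(twistedD4 K q) := by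
    intro h3 h
    have hq2 : 2 < q := by
      by_contra hcon
      have : q = 2 := by omega
      rw [this] at h
      exact h3 ((Nat.prime_dvd_prime_iff_eq hp.out Nat.prime_three).1 h)
    exact good_six hs hcen hK hφ hq2 r hp.out hp2 h3 hpr h
  by_cases hM : ∃ t : ℕ, r ^ t = p + 1
  · obtain ⟨t, ht⟩ := hM
    by_cases hr2 : r = 2
    · subst hr2
      rcases hcase with h | ⟨h3, h⟩ | ⟨h3, h⟩ | h
      · rcases hfact h with h | h
        · exact good_one hs hK hφ hq1 2 hp.out hp2 hpr h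
        · have h3 : p = 3 := mers_add hp.out.one_lt ht (by rw [← hqr]; exact h)
          subst h3
          by_cases hq8 : 8 ≤ q
          · exact Cfsg.Agent.H435.Fpr.Exc.three_3D4 hs hK hφ hq8 h
          · have hf3 : f < 3 := by
              by_contra hcon
              have : 2 ^ 3 ≤ 2 ^ f := Nat.pow_le_pow_right (by norm_num) (by omega)
              omega
            have hq2 : q = 2 := by
              interval_cases f
              · exact absurd rfl hf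
              · omega
              · rw [hqr] at h; norm_num at h
            subst hq2
            exact Cfsg.Agent.H448.FprMers.row_3D4_two_three hK hφ
      · rcases mers_three hp.out ht (by rw [← hqr]; exact h) with h4 | h4
        · exact absurd h4 h3
        · subst h4
          by_cases hq4 : 4 ≤ q
          · exact h7 φ hφ hchar hq4 h
          · have hq2 : q = 2 := by
              have hf2 : f < 2 := by
                by_contra hcon
                have : 2 ^ 2 ≤ 2 ^ f := Nat.pow_le_pow_right (by norm_num) (by omega)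
                omega
              interval_cases f
              · exact absurd rfl hf
              · omega
            subst hq2
            exact Cfsg.Agent.H448.FprMers.row_3D4_two_seven hK hφ
      · exact hsix h3 h
      · exact Cfsg.Agent.H448.FprExc.row_3D4 hq hK h
    · exact absurd ht (no_pow hr.out hr2 hp.out hp2 t)
  push Not at hM
  rcases hcase with h | ⟨h3, h⟩ | ⟨h3, h⟩ | h
  · exact sharp_of hp.out hr.out hM (twoPair_odd hs hK hφ hq1 r hp.out hp2 h)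
  · exact sharp_of hp.out hr.out hM (twoPair_C hK hφ hq1 r hp.out hp2 h)
  · exact hsix h3 h
  · exact Cfsg.Agent.H448.FprExc.row_3D4 hq hK h

/-- **All rows of S3569 for `³D₄(q)`.** -/
theorem row569 (hq : IsPrimePow q) (hK : Fintype.card K = q ^ 3) {p : ℕ} [hp : Fact p.Prime] (hch : (p : K) ≠ 0)
    (hpG : p ∣ Nat.card ↥(twistedD4 K q)) : FprRow (2 * p - 1) (p - 1) p ↥(twistedD4 K q) := by
  obtain ⟨r, f, hr, hchar, φ, hqr, hf, hφ⟩ := exists_frob hq hK
  have hq1 : 1 < q := hq.one_lt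
  have hs : IsSimpleGroup ↥(twistedD4 K q) := (Cfsg.Agent.S1071.result hq hK).1
  have hcen := center_bot hs (Cfsg.Agent.S1071.result hq hK).2
  have hfin : Finite ↥(twistedD4 K q) := inferInstance
  have hpr : p ≠ r := by
    rintro rfl
    exact hch (CharP.cast_eq_zero K p)
  have hpq : ¬ p ∣ q := by
    intro h
    rw [hqr] at h
    exact hpr ((Nat.prime_dvd_prime_iff_eq hp.out hr.out).1 (hp.out.dvd_of_dvd_pow h))
  by_cases hp2 : p = 2
  · subst hp2
    exact (twoPair_two hs hK hφ hq1 r (fun h => hpr h.symm)).good Nat.prime_two (fun _ => le_rfl)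
  rw [Cfsg.Agent.S1067.result hq hK] at hpG
  have hp3 : p = 3 → p ∣ q ^ 2 - 1 := by
    rintro rfl
    have h1 : q % 3 = 1 ∨ q % 3 = 2 := by omega
    have h2 : q ^ 2 % 3 = 1 := by
      rcases h1 with h1 | h1 <;> rw [Nat.pow_mod, h1]
    have h3 : 1 ≤ q ^ 2 := by omega
    omega
  have hle : (2 * p - 1) * 1 ≤ (p - 1) * (p + 1) := by
    have h3 : 3 ≤ p := by
      have := hp.out.two_le
      omega
    obtain ⟨m, rfl⟩ : ∃ m, p = m + 3 := ⟨p - 3, by omega⟩
    have e1 : 2 * (m + 3) - 1 = 2 * m + 5 := by omega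
    have e2 : m + 3 - 1 = m + 2 := by omega
    rw [e1, e2]
    nlinarith
  rcases cases_3D4 hq1 hpq hpG with h | h | h | h
  · exact (twoPair_odd hs hK hφ hq1 r hp.out hp2 h).good hp.out (fun h => absurd h hp2)
  · exact (twoPair_C hK hφ hq1 r hp.out hp2 h).good hp.out (fun h => absurd h hp2)
  · by_cases h3 : p = 3
    · exact (twoPair_odd hs hK hφ hq1 r hp.out hp2 (hp3 h3)).good hp.out (fun h => absurd h hp2)
    · have hq2 : 2 < q := by
        by_contra hcon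
        have : q = 2 := by omega
        rw [this] at h
        exact h3 ((Nat.prime_dvd_prime_iff_eq hp.out Nat.prime_three).1 h)
      have hg : FprRow (p + 1) 1 p ↥(twistedD4 K q) := good_six hs hcen hK hφ hq2 r hp.out hp2 h3 hpr h
      exact hg.mono (by norm_num) hle
  · exact (Cfsg.Agent.H448.FprExc.row_3D4 hq hK h).mono (by norm_num) hle

end

end Cfsg.Agent.H435.Fpr.D4Row
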