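import Cfsg.Agent.H435.Fpr.DFourRow
import Cfsg.Agent.H452.FprD4M

/-!
# Fixed point ratios: all sharp rows of `³D₄(q)`
-/

set_option autoImplicit false

namespace Cfsg.Agent.H435.Fpr.D4Row

open Cfsg.Lie
open Cfsg.Agent.H409 (FprRow)

universe u

variable {K : Type u} [Field K] [Fintype K] {q : ℕ}

/-- **all rows of S3578 for `³D₄(q)`** -/
theorem row_sharp (hq : IsPrimePow q) (hK : Fintype.card K = q ^ 3) {p : ℕ} [hp : Fact p.Prime]
    (hch : (p : K) ≠ 0) (hpG : p ∣ Nat.card ↥(twistedD4 K q)) : FprRow (p + 1) 1 p ↥(twistedD4 K q) := by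
  have hs : IsSimpleGroup ↥(twistedD4 K q) := (Cfsg.Agent.S1071.result hq hK).1
  have hcen := center_bot hs (Cfsg.Agent.S1071.result hq hK).2
  exact row_sharp' (fun φ hφ hc h4 h7 => Cfsg.Agent.H452.D4M.row_seven hs hcen hK hφ h4 h7) hq hK hch hpG

end Cfsg.Agent.H435.Fpr.D4Row
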