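import Cfsg.Agent.H400.FprChevRowsE
import Cfsg.Agent.H398.FPR.Frob
import Cfsg.Agent.H452.FprJ1
import Cfsg.Agent.H448.FprExc.RowG2
import Cfsg.Agent.S1054

/-!
# Exceptional groups, `q ≥ 8` even, `p = 3 ∣ q + 1`: growth through the long root `SL₂(q)`
-/

set_option autoImplicit false
set_option linter.unusedSectionVars false

namespace Cfsg.Agent.H435.Fpr.Exc

open CoxeterSystem Cfsg.Agent.ChevalleyStructure.CoxeterGeom Cfsg.Agent.Tits.Roots Cfsg.Agent.Tits.Core
  Cfsg.Agent.Nodes.Reps Cfsg.Agent.Nodes.BNOf Cfsg.Agent.KFacts.RgdSL Cfsg.Agent.Nodes.RGDChev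
  Cfsg.Agent.ChevalleyStructure.CoxeterGeomTypes Cfsg.Agent.Nodes.KindChev Cfsg.Agent.Nodes.Coroot
  Cfsg.Agent.KFacts.RgdTI
open Cfsg.Lie Cfsg.Agent.ChevalleyStructure Cfsg.Agent.ChevalleyStructure.Elts
open Cfsg.Agent.H400.TwoExc Cfsg.Agent.H86.Par
open Cfsg.Agent.ChevalleyStructure.RootCombGood (car)
open Cfsg.Agent.H398.FPR (CommFull UGood Pair Good growth_uGood)
open Cfsg.Agent.Nodes.RGDFoldSL
open Cfsg.Agent.H400.Fpr Cfsg.Agent.H400.Fpr.Chev
open Cfsg.Agent.H409 (FprRow)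
open scoped commutatorElement MatrixGroups

universe u

section Chev

variable {D : ChevalleyDatum} {l : ℕ} {M : CoxeterMatrix (Fin l)} (hp : IsType D l M) {K : Type u} [Field K]
  {W : Type*} [Group W] {cs : CoxeterSystem M W}

include hp in
theorem rootSubgroup_le' (r : ℕ) : D.rootSubgroup K r ≤ D.group K := by
  intro g hg
  obtain ⟨t, rfl⟩ := (mem_rootSubgroup_iff hp.inList _ _).1 hg
  exact xG_mem_group hp.inList _ _

theorem psi_mem_group (g : Matrix.SpecialLinearGroup (Fin 2) K) :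
    psi hp.inList K (top D) g ∈ D.group K :=
  (sup_le (rootSubgroup_le' hp _) (rootSubgroup_le' hp _) :
    D.rootSubgroup K (top D) ⊔ D.rootSubgroup K (D.neg (top D)) ≤ D.group K)
    (psi_mem hp.inList (top_lt hp.inList) g)

/-- the long root `SL₂` -/
noncomputable def phi : Matrix.SpecialLinearGroup (Fin 2) K →* ↥(D.group K) :=
  (psi hp.inList K (top D)).codRestrict (D.group K) (psi_mem_group hp)

/-- **`e = 1` for an exceptional Chevalley group**, the element is in the long root `SL₂`. -/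
theorem one_chev' [Finite K] [Finite W] {p : ℕ} [Fact p.Prime] [CharP K p] (hs : IsSimpleGroup ↥(D.group K))
    (H : Hw (rgd (K := K) hp cs p) (vec D l (top D))) (i0 : Fin l)
    (hck : ∀ s < D.nroots, car D (top D) s = vec D l s i0) (hb : ∀ s < D.nroots, vec D l s i0 ≤ 2)
    (hcr : ∀ i, cpr cs hp.isCartan (sr i) (vec D l (top D)) = if i = i0 then 1 else 0)
    {ℓ : ℕ} (hℓ : ℓ.Prime) (hℓ2 : ℓ ≠ 2) (hd : ℓ ∣ Nat.card K - 1) :
    ∃ x : ↥(D.group K), x ∈ (phi (K := K) hp).range ∧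
      ∀ M' : ℕ, (∀ t : ℕ, t ≠ 0 → p ^ t ≡ 1 [MOD ℓ] → M' ≤ p ^ t) →
      M' ≤ Nat.card K → UGood 1 M' x := by
  have : Fact ℓ.Prime := ⟨hℓ⟩
  have hr := H.L.root
  obtain ⟨v, hv⟩ := exists_prime_orderOf_dvd_card' (G := Kˣ) ℓ (by rw [Nat.card_units]; exact hd)
  set c : K := (v : K) with hc
  have hc0 : c ≠ 0 := v.ne_zero
  have hcℓ : c ^ ℓ = 1 := by rw [hc, ← Units.val_pow_eq_pow_val, ← hv, pow_orderOf_eq_one, Units.val_one]
  have hc1 : c ≠ 1 := by
    intro h1
    have h2 : v = 1 := Units.ext h1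
    rw [h2, orderOf_one] at hv
    exact hℓ.one_lt.ne hv
  have hc2 : c ^ 2 ≠ 1 := by
    intro h1
    have h2 : v ^ 2 = 1 := Units.ext (by rw [Units.val_pow_eq_pow_val, Units.val_one]; exact h1)
    have h3 := orderOf_dvd_of_pow_eq_one h2
    rw [hv] at h3
    exact hℓ2 ((Nat.prime_dvd_prime_iff_eq hℓ Nat.prime_two).1 h3)
  have hmem : hG hp.inList (top D) c ∈ D.group K := hG_mem_group hp.inList _ _
  have htop : top D < D.nroots := top_lt hp.inList
  let x : ↥(D.group K) := ⟨hG hp.inList (top D) c, hmem⟩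
  have hxℓ : x ^ ℓ = 1 := by
    apply Subtype.ext
    rw [Subgroup.coe_pow]
    show (hG hp.inList (top D) c) ^ ℓ = 1
    rw [← psi_hS hp.inList htop, ← map_pow, hS_pow hc0, hcℓ, hS_one, map_one]
  refine ⟨x, ⟨hS c, Subtype.ext (psi_hS hp.inList htop c)⟩, fun M' hM hMr => ?_⟩
  have hcardX : Nat.card ((XV D l K (vec D l (top D))).subgroupOf (D.group K)) = Nat.card K := by
    rw [Nat.card_congr (Subgroup.subgroupOfEquivOfLe (XV_le_group hp _)).toEquiv, XV_vec hp K htop]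
    exact card_rootSubgroup hp htop
  have hQp : IsPGroup p (QQ cs hp.isCartan (fun x => (XV D l K x).subgroupOf (D.group K)) (vec D l (top D))) := by
    refine IsPGroup.to_le (rgd (K := K) hp cs p).isPGroup_Upos ?_
    refine RGD.Sup_mono (Gt_subset_pos hr fun i => ?_)
    rw [hcr]
    split_ifs <;> norm_num
  refine one_hw (k := 1) H hs (G1_eq_top hp cs) hℓ (x := x) ?_ (by rw [pow_one]; exact hxℓ) ?_ hQp hM
    (by rw [hcardX]; exact hMr)
  · exact Subgroup.mem_subgroupOf.2 (hG_mem_diagonal hp.inList htop hc0)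
  · intro s hs
    obtain ⟨r, hr', rfl⟩ := (isRoot_iff hp cs _).1 hs.1
    have h1 := hs.2
    rw [cpr_coord hr i0 hcr] at h1
    have h2 := hb r hr'
    refine free_X hp hr' (m := car D (top D) r) (fun t => hG_top_conj hp.inList hc0 hr' t) ?_
    rw [hck r hr']
    have h3 : vec D l r i0 = 1 ∨ vec D l r i0 = 2 := by omega
    rcases h3 with h3 | h3
    · rw [h3, zpow_one]; exact hc1
    · rw [h3]
      intro h4
      apply hc2
      have h5 : (2 : ℤ) = ((2 : ℕ) : ℤ) := rfl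
      rw [h5, zpow_natCast] at h4
      exact h4

/-- A prime divisor of `q - 1` for `q ≥ 8`, `3 ∣ q + 1`. -/
theorem exists_prime_eight {q a : ℕ} (hq : q = 2 ^ a) (h8 : 8 ≤ q) (h3 : 3 ∣ q + 1) :
    ∃ ℓ : ℕ, ℓ.Prime ∧ ℓ ≠ 2 ∧ ℓ ∣ q - 1 ∧ ∀ t : ℕ, t ≠ 0 → 2 ^ t ≡ 1 [MOD ℓ] → 8 ≤ 2 ^ t := by
  have hℓ : (Nat.minFac (q - 1)).Prime := Nat.minFac_prime (by omega)
  have hd := Nat.minFac_dvd (q - 1)
  obtain ⟨ℓ, hℓe⟩ : ∃ ℓ, ℓ = Nat.minFac (q - 1) := ⟨_, rfl⟩
  rw [← hℓe] at hℓ hd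
  have hodd : ¬ 2 ∣ q - 1 := by
    have ha : a ≠ 0 := by
      rintro rfl
      rw [pow_zero] at hq
      omega
    obtain ⟨b, rfl⟩ := Nat.exists_eq_succ_of_ne_zero ha
    rw [pow_succ] at hq
    omega
  have h3' : ¬ 3 ∣ q - 1 := by omega
  refine ⟨ℓ, hℓ, ?_, hd, ?_⟩
  · rintro rfl
    exact hodd hd
  · intro t ht hmod
    by_contra hlt
    have ht3 : t < 3 := by
      by_contra h
      apply hlt
      calc 8 = 2 ^ 3 := by norm_num
        _ ≤ 2 ^ t := Nat.pow_le_pow_right (by norm_num) (by omega)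
    have h1 := (Nat.modEq_iff_dvd' Nat.one_le_two_pow).1 hmod.symm
    interval_cases t
    · exact ht rfl
    · norm_num at h1
      exact hℓ.one_lt.ne' h1
    · norm_num at h1
      apply h3'
      rcases (Nat.dvd_prime Nat.prime_three).1 h1 with h2 | h2
      · exact absurd h2 hℓ.one_lt.ne'
      · rwa [h2] at hd

/-- an element of order three -/
theorem exists_order_three [CharP K 2] :
    ∃ x0 : Matrix.SpecialLinearGroup (Fin 2) K, orderOf x0 = 3 := by
  have h2F : (2 : K) = 0 := by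
    have := CharP.cast_eq_zero K 2
    exact_mod_cast this
  have h11 : (1 : K) + 1 = 0 := by rw [one_add_one_eq_two, h2F]
  have hdet : (!![(0 : K), 1; 1, 1] : Matrix (Fin 2) (Fin 2) K).det = 1 := by
    rw [Matrix.det_fin_two_of]
    linear_combination (-1 : K) * h2F
  have : Fact (Nat.Prime 3) := ⟨Nat.prime_three⟩
  refine ⟨⟨!![(0 : K), 1; 1, 1], hdet⟩, orderOf_eq_prime ?_ ?_⟩
  · apply Subtype.ext
    change (!![(0 : K), 1; 1, 1] : Matrix (Fin 2) (Fin 2) K) ^ 3 = 1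
    rw [pow_succ, pow_succ, pow_one]
    ext i j
    fin_cases i <;> fin_cases j <;> simp [h11]
  · intro h
    have h1 := congrFun (congrFun (congrArg Subtype.val h) 0) 1
    change (1 : K) = (1 : Matrix (Fin 2) (Fin 2) K) 0 1 at h1
    simp at h1

/-- **`p = 3`, `q ≥ 8` even.** -/
theorem three_chev [Finite K] [Finite W] [CharP K 2] (hs : IsSimpleGroup ↥(D.group K))
    (H : Hw (rgd (K := K) hp cs 2) (vec D l (top D))) (i0 : Fin l)
    (hck : ∀ s < D.nroots, car D (top D) s = vec D l s i0) (hb : ∀ s < D.nroots, vec D l s i0 ≤ 2)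
    (hcr : ∀ i, cpr cs hp.isCartan (sr i) (vec D l (top D)) = if i = i0 then 1 else 0)
    (h8 : 8 ≤ Nat.card K) (h3 : 3 ∣ Nat.card K + 1) :
    ∃ x : ↥(D.group K), x ^ 3 = 1 ∧ UGood 1 4 x := by
  have := Fintype.ofFinite K
  obtain ⟨a, -, ha⟩ := FiniteField.card K 2
  obtain ⟨ℓ, hℓ, hℓ2, hd, hM⟩ := exists_prime_eight (q := Nat.card K)
    (by rw [Nat.card_eq_fintype_card]; exact ha) h8 h3
  obtain ⟨y, hy, hyU⟩ := one_chev' hp hs H i0 hck hb hcr hℓ hℓ2 hd
  have hfin : Finite (Matrix.SpecialLinearGroup (Fin 2) K) := inferInstance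
  have : Fact (Nat.Prime 3) := ⟨Nat.prime_three⟩
  obtain ⟨x0, hx0⟩ := exists_order_three (K := K)
  refine ⟨phi hp x0, by rw [← map_pow, ← hx0, pow_orderOf_eq_one, map_one], ?_⟩
  have h7 := Cfsg.Agent.H452.FprJ1.sl_ugood (F := K) (by rw [← Nat.card_eq_fintype_card]; exact h8)
    (by rw [← Nat.card_eq_fintype_card]; exact h3) hx0
  have h7' := h7.of_surjective (phi (K := K) hp).rangeRestrict_surjective
  have hg := growth_uGood (K := (phi (K := K) hp).range) (x := phi hp x0) ⟨x0, rfl⟩ hy (by norm_num)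
    h7' (hyU 8 hM h8)
  exact hg.mono (by norm_num) (by norm_num)

end Chev

section Rows

variable {K : Type u} [Field K]

theorem row_of_exists {G : Type*} [Group G] (h : ∃ x : G, x ^ 3 = 1 ∧ UGood 1 4 x) :
    FprRow (3 + 1) 1 3 G := by
  obtain ⟨x, hx, hU⟩ := h
  intro H hH
  obtain ⟨m, -, hm⟩ := (Nat.dvd_prime_pow Nat.prime_three).1
    (orderOf_dvd_of_pow_eq_one (show x ^ 3 ^ 1 = 1 by rw [pow_one, hx]))
  exact ⟨x, ⟨m, hm⟩, hU H hH⟩

/-- **`G₂(q)`, `p = 3`.** -/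
theorem three_G2 [Finite K] [CharP K 2] (h8 : 8 ≤ Nat.card K) (h3 : 3 ∣ Nat.card K + 1) :
    FprRow (3 + 1) 1 3 ↥(chevG2.group K) := by
  have hp : IsType chevG2 2 CoxeterMatrix.G₂ := by simp [IsType, typeList]
  let cs : CoxeterSystem CoxeterMatrix.G₂ CoxeterMatrix.G₂.Group := CoxeterMatrix.G₂.toCoxeterSystem
  have hW : Finite CoxeterMatrix.G₂.Group := finite_W hp cs
  have hG := grG cs hp
  have hv : vec chevG2 2 11 = toV [3, 2] := by decide +kernel
  have ht : top chevG2 = 11 := by decide +kernel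
  have := Fintype.ofFinite K
  have hs : IsSimpleGroup ↥(chevG2.group K) :=
    (Cfsg.Agent.H448.FprExc.simple_G2 (by rw [← Nat.card_eq_fintype_card]; omega)).1
  refine row_of_exists (three_chev (cs := cs) hp hs ?_ 1 (by decide +kernel) (by decide +kernel) ?_ h8 h3)
  · rw [ht]
    exact hw_chev hp (m := 3) chkNG chkSG (by decide +kernel) (d := toV dlG2c) (by rw [hv]; exact hG) 2
      (a := 10) (b := 6) (by decide +kernel) (by decide +kernel) (by decide +kernel) (by decide +kernel)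
      (by decide +kernel) (C := 1) (Or.inl rfl) (by decide +kernel) (by decide +kernel) (by decide +kernel)
  · intro i
    rw [ht, hv]
    fin_cases i
    · exact cpr_val hG.hd hG.rr (c := 0) (by decide +kernel) (by decide +kernel)
    · exact cpr_val hG.hd hG.rr (c := 1) (by decide +kernel) (by decide +kernel)

/-- **`F₄(q)`, `p = 3`.** -/
theorem three_F4 [Finite K] [CharP K 2] (h8 : 8 ≤ Nat.card K) (h3 : 3 ∣ Nat.card K + 1) :
    FprRow (3 + 1) 1 3 ↥(chevF4.group K) := by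
  have hp : IsType chevF4 4 CoxeterMatrix.F₄ := by simp [IsType, typeList]
  let cs : CoxeterSystem CoxeterMatrix.F₄ CoxeterMatrix.F₄.Group := CoxeterMatrix.F₄.toCoxeterSystem
  have hW : Finite CoxeterMatrix.F₄.Group := finite_W hp cs
  have hG := grF cs hp
  have hv : vec chevF4 4 47 = toV [2, 4, 3, 2] := by decide +kernel
  have ht : top chevF4 = 47 := by decide +kernel
  have := Fintype.ofFinite K
  have hs : IsSimpleGroup ↥(chevF4.group K) := (Cfsg.Agent.S1054.result (F := K) chevF4 (by simp)).1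
  refine row_of_exists (three_chev (cs := cs) hp hs ?_ 3 (by decide +kernel) (by decide +kernel) ?_ h8 h3)
  · rw [ht]
    exact hw_chev hp (m := 2) chkNF chkSF (by decide +kernel) (d := toV dlF4c) (by rw [hv]; exact hG) 2
      (a := 46) (b := 24) (by decide +kernel) (by decide +kernel) (by decide +kernel) (by decide +kernel)
      (by decide +kernel) (C := 1) (Or.inl rfl) (by decide +kernel) (by decide +kernel) (by decide +kernel)
  · intro i
    rw [ht, hv]
    fin_cases i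
    · exact cpr_val hG.hd hG.rr (c := 0) (by decide +kernel) (by decide +kernel)
    · exact cpr_val hG.hd hG.rr (c := 0) (by decide +kernel) (by decide +kernel)
    · exact cpr_val hG.hd hG.rr (c := 0) (by decide +kernel) (by decide +kernel)
    · exact cpr_val hG.hd hG.rr (c := 1) (by decide +kernel) (by decide +kernel)

theorem three_E {D : ChevalleyDatum} {l : ℕ} {M : CoxeterMatrix (Fin l)} (hp : IsType D l M) {K : Type u} [Field K]
    [Finite K] [CharP K 2] (h4 : ∀ i j, M i j ≠ 4) (h6 : ∀ i j, M i j ≠ 6) (i0 : Fin l)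
    (hck : ∀ s < D.nroots, car D (top D) s = vec D l s i0) (hb : ∀ s < D.nroots, vec D l s i0 ≤ 2)
    (hcr : ∀ i, pairing (cartanOf D l) i (vec D l (top D)) = if i = i0 then 1 else 0)
    (hs : IsSimpleGroup ↥(D.group K)) (h8 : 8 ≤ Nat.card K) (h3 : 3 ∣ Nat.card K + 1) :
    FprRow (3 + 1) 1 3 ↥(D.group K) := by
  let cs : CoxeterSystem M M.Group := M.toCoxeterSystem
  have hW : Finite M.Group := finite_W hp cs
  have hSL : SL cs hp.isCartan := fun _ _ hx hy => Nodes.SimplyLaced.cpr_symm cs _ h4 h6 hx hy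
  have hr : IsRoot cs hp.isCartan (vec D l (top D)) := isRoot_vec hp cs (top_lt hp.inList)
  have h1 : ∀ i, cpr cs hp.isCartan (sr i) (vec D l (top D)) = if i = i0 then 1 else 0 := by
    intro i
    rw [hSL _ _ (isRoot_sr cs _ i) hr, cpr_sr]
    exact hcr i
  have H : Hs (rgd (K := K) hp cs 2) (vec D l (top D)) := by
    refine Hs.of_SL _ hSL hr (isRoot_sr cs _ i0) ?_
    rw [cpr_sr, hcr, if_pos rfl]
  refine row_of_exists (three_chev hp hs (Cfsg.Agent.H400.Fpr.Hs.hw H ⟨sr i0, ⟨isRoot_sr cs _ i0, ?_⟩, ?_⟩) i0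
    hck hb h1 h8 h3)
  · rw [h1, if_pos rfl]; norm_num
  · intro h2
    have h3 := h1 i0
    rw [if_pos rfl, h2, cpr_self cs _ hr] at h3
    norm_num at h3

/-- **`E₆(q)`, `p = 3`.** -/
theorem three_E6 [Finite K] [CharP K 2] (h8 : 8 ≤ Nat.card K) (h3 : 3 ∣ Nat.card K + 1) :
    FprRow (3 + 1) 1 3 ↥(chevE6.group K) :=
  have := Fintype.ofFinite K
  three_E (l := 6) (M := CoxeterMatrix.E₆) (by simp [IsType, typeList]) ne_E6.1 ne_E6.2 1 (by decide +kernel)
    (by decide +kernel) (by decide +kernel) (Cfsg.Agent.S1054.result (F := K) chevE6 (by simp)).1 h8 h3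

/-- **`E₇(q)`, `p = 3`.** -/
theorem three_E7 [Finite K] [CharP K 2] (h8 : 8 ≤ Nat.card K) (h3 : 3 ∣ Nat.card K + 1) :
    FprRow (3 + 1) 1 3 ↥(chevE7.group K) :=
  have := Fintype.ofFinite K
  three_E (l := 7) (M := CoxeterMatrix.E₇) (by simp [IsType, typeList]) ne_E7.1 ne_E7.2 0 (by decide +kernel)
    (by decide +kernel) (by decide +kernel) (Cfsg.Agent.S1054.result (F := K) chevE7 (by simp)).1 h8 h3

/-- a bounded statement from blocks of length `m` -/
theorem ball_of_blocks {P : ℕ → Prop} (m b : ℕ) (hm : 0 < m) (h : ∀ j < b, ∀ s < m, P (j * m + s)) :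
    ∀ s < b * m, P s := by
  intro s hs
  have h1 := h (s / m) (Nat.div_lt_of_lt_mul (by rwa [Nat.mul_comm])) (s % m) (Nat.mod_lt _ hm)
  rwa [Nat.div_add_mod'] at h1

theorem ckE8_0 : ∀ s < 30, car chevE8 (top chevE8) (0 * 30 + s) = vec chevE8 8 (0 * 30 + s) 7 := by
  decide +kernel

theorem ckE8_1 : ∀ s < 30, car chevE8 (top chevE8) (1 * 30 + s) = vec chevE8 8 (1 * 30 + s) 7 := by
  decide +kernel

theorem ckE8_2 : ∀ s < 30, car chevE8 (top chevE8) (2 * 30 + s) = vec chevE8 8 (2 * 30 + s) 7 := by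
  decide +kernel

theorem ckE8_3 : ∀ s < 30, car chevE8 (top chevE8) (3 * 30 + s) = vec chevE8 8 (3 * 30 + s) 7 := by
  decide +kernel

theorem ckE8_4 : ∀ s < 30, car chevE8 (top chevE8) (4 * 30 + s) = vec chevE8 8 (4 * 30 + s) 7 := by
  decide +kernel

theorem ckE8_5 : ∀ s < 30, car chevE8 (top chevE8) (5 * 30 + s) = vec chevE8 8 (5 * 30 + s) 7 := by
  decide +kernel

theorem ckE8_6 : ∀ s < 30, car chevE8 (top chevE8) (6 * 30 + s) = vec chevE8 8 (6 * 30 + s) 7 := by
  decide +kernel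

theorem ckE8_7 : ∀ s < 30, car chevE8 (top chevE8) (7 * 30 + s) = vec chevE8 8 (7 * 30 + s) 7 := by
  decide +kernel

theorem ckE8 : ∀ s < chevE8.nroots, car chevE8 (top chevE8) s = vec chevE8 8 s 7 := by
  have h0 : chevE8.nroots = 8 * 30 := by decide +kernel
  rw [h0]
  refine ball_of_blocks (P := fun s => car chevE8 (top chevE8) s = vec chevE8 8 s 7) 30 8 (by norm_num) ?_
  intro j hj
  interval_cases j
  · exact ckE8_0
  · exact ckE8_1
  · exact ckE8_2
  · exact ckE8_3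
  · exact ckE8_4
  · exact ckE8_5
  · exact ckE8_6
  · exact ckE8_7

/-- **`E₈(q)`, `p = 3`.** -/
theorem three_E8 [Finite K] [CharP K 2] (h8 : 8 ≤ Nat.card K) (h3 : 3 ∣ Nat.card K + 1) :
    FprRow (3 + 1) 1 3 ↥(chevE8.group K) :=
  have := Fintype.ofFinite K
  three_E (l := 8) (M := CoxeterMatrix.E₈) (by simp [IsType, typeList]) ne_E8.1 ne_E8.2 7 ckE8
    (by decide +kernel) (by decide +kernel) (Cfsg.Agent.S1054.result (F := K) chevE8 (by simp)).1 h8 h3

end Rows

end Cfsg.Agent.H435.Fpr.Exc
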