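import Cfsg.Agent.H435.Fpr.Real

/-!
# Real cycles of odd length in alternating groups
-/

set_option autoImplicit false
open Subgroup MulAction
open scoped Pointwise

namespace Cfsg.Agent.H435.Fpr

/-- `g` fixes the points of `F` and permutes the others transitively. -/
def Cyc {n : ℕ} (g : Equiv.Perm (Fin n)) (F : Finset (Fin n)) : Prop :=
  (∀ i ∈ F, g i = i) ∧ ∀ i ∉ F, ∀ j ∉ F, ∃ k : ℕ, (g ^ k) i = j

theorem sign_neg_five : Equiv.Perm.sign (Equiv.neg (ZMod 5)) = 1 := by decide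

theorem real_elt {n ℓ d : ℕ} (hn : n = ℓ + d) (hℓ : Odd ℓ) (hd : 2 ≤ d ∨ ℓ = 5) :
    ∃ g x : alternatingGroup (Fin n), x * g * x⁻¹ = g⁻¹ ∧ x * x = 1 ∧ Odd (orderOf g) ∧
      ∃ F : Finset (Fin n), F.card = d ∧ Cyc (g : Equiv.Perm (Fin n)) F := by
  classical
  have hℓ0 : NeZero ℓ := ⟨by rintro rfl; simp at hℓ⟩
  let e : (ZMod ℓ ⊕ Fin d) ≃ Fin n :=
    (Equiv.sumCongr (ZMod.finEquiv ℓ).toEquiv.symm (Equiv.refl _)).trans
      (finSumFinEquiv.trans (finCongr hn.symm))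
  let σ : Equiv.Perm (ZMod ℓ ⊕ Fin d) := Equiv.Perm.sumCongr (Equiv.addRight 1) 1
  have hρ : ∃ ρ : Equiv.Perm (Fin d), ρ * ρ = 1 ∧
      Equiv.Perm.sign (Equiv.neg (ZMod ℓ)) * Equiv.Perm.sign ρ = 1 := by
    rcases Int.units_eq_one_or (Equiv.Perm.sign (Equiv.neg (ZMod ℓ))) with h | h
    · exact ⟨1, by simp, by simp [h]⟩
    · rcases hd with h2 | h5
      · refine ⟨Equiv.swap ⟨0, by omega⟩ ⟨1, by omega⟩, Equiv.swap_mul_self _ _, ?_⟩
        rw [h, Equiv.Perm.sign_swap (by simp)]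
        rfl
      · subst h5
        exfalso
        have h5 : Equiv.Perm.sign (Equiv.neg (ZMod 5)) = 1 := sign_neg_five
        have h6 : (1 : ℤˣ) = -1 := h5.symm.trans h
        exact absurd h6 (by decide)
  obtain ⟨ρ, hρ2, hρs⟩ := hρ
  let τ : Equiv.Perm (ZMod ℓ ⊕ Fin d) := Equiv.Perm.sumCongr (Equiv.neg (ZMod ℓ)) ρ
  have hσl : ∀ k : ℕ, σ ^ k = Equiv.Perm.sumCongr (Equiv.addRight (k : ZMod ℓ)) 1 := by
    intro k
    induction k with
    | zero =>
      ext a
      rcases a with a | a <;> simp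
    | succ k ih =>
      rw [pow_succ, ih]
      ext a
      rcases a with a | a
      · simp [σ, add_comm]
      · simp [σ]
  have hσo : σ ^ ℓ = 1 := by
    rw [hσl]
    ext a
    rcases a with a | a <;> simp
  have hconj : τ * σ * τ⁻¹ = σ⁻¹ := by
    rw [mul_inv_eq_iff_eq_mul]
    have h1 : σ * (τ * σ) = τ := by
      ext a
      rcases a with a | a
      · simp [σ, τ]
      · simp [σ, τ]
    calc τ * σ = σ⁻¹ * (σ * (τ * σ)) := by group
      _ = σ⁻¹ * τ := by rw [h1]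
  have hττ : τ * τ = 1 := by
    ext a
    rcases a with a | a
    · simp [τ]
    · have := congrArg (fun f : Equiv.Perm (Fin d) => f a) hρ2
      simp only [Equiv.Perm.mul_apply, Equiv.Perm.one_apply] at this
      simp [τ, this]
  let E := e.permCongrHom
  have hσs : Equiv.Perm.sign σ = 1 := by
    have h1 : Equiv.Perm.sign σ ^ ℓ = 1 := by rw [← map_pow, hσo, map_one]
    rcases Int.units_eq_one_or (Equiv.Perm.sign σ) with h | h
    · exact h
    · rw [h, hℓ.neg_one_pow] at h1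
      exact absurd h1 (by decide)
  have hτs : Equiv.Perm.sign τ = 1 := by
    change Equiv.Perm.sign (Equiv.Perm.sumCongr (Equiv.neg (ZMod ℓ)) ρ) = 1
    rw [Equiv.Perm.sign_sumCongr]
    exact hρs
  have hEs : ∀ f : Equiv.Perm (ZMod ℓ ⊕ Fin d), Equiv.Perm.sign (E f) = Equiv.Perm.sign f := by
    intro f
    exact Equiv.Perm.sign_permCongr e f
  refine ⟨⟨E σ, Equiv.Perm.mem_alternatingGroup.2 (by rw [hEs, hσs])⟩,
    ⟨E τ, Equiv.Perm.mem_alternatingGroup.2 (by rw [hEs, hτs])⟩, ?_, ?_, ?_, ?_⟩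
  · apply Subtype.ext
    change E τ * E σ * (E τ)⁻¹ = (E σ)⁻¹
    rw [← map_inv, ← map_mul, ← map_mul, hconj, map_inv]
  · apply Subtype.ext
    change E τ * E τ = 1
    rw [← map_mul, hττ, map_one]
  · refine hℓ.of_dvd_nat (orderOf_dvd_of_pow_eq_one ?_)
    apply Subtype.ext
    change E σ ^ ℓ = 1
    rw [← map_pow, hσo, map_one]
  · refine ⟨(Finset.univ : Finset (Fin d)).map ⟨fun j => e (Sum.inr j), ?_⟩, ?_, ?_, ?_⟩
    · intro a b h
      exact Sum.inr_injective (e.injective h)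
    · simp
    · intro i hi
      rw [Finset.mem_map] at hi
      obtain ⟨j, -, rfl⟩ := hi
      change e (σ (e.symm (e (Sum.inr j)))) = e (Sum.inr j)
      rw [e.symm_apply_apply]
      simp [σ]
    · intro i hi j hj
      have hI : ∀ i : Fin n, i ∉ (Finset.univ : Finset (Fin d)).map
          ⟨fun j => e (Sum.inr j), fun a b h => Sum.inr_injective (e.injective h)⟩ →
          ∃ a : ZMod ℓ, e (Sum.inl a) = i := by
        intro i hi
        obtain ⟨a, rfl⟩ := e.surjective i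
        rcases a with a | a
        · exact ⟨a, rfl⟩
        · exact absurd (Finset.mem_map.2 ⟨a, Finset.mem_univ _, rfl⟩) hi
      obtain ⟨a, rfl⟩ := hI i hi
      obtain ⟨b, rfl⟩ := hI j hj
      refine ⟨(b - a).val, ?_⟩
      change (E σ ^ (b - a).val) (e (Sum.inl a)) = e (Sum.inl b)
      rw [← map_pow]
      change e ((σ ^ (b - a).val) (e.symm (e (Sum.inl a)))) = e (Sum.inl b)
      rw [e.symm_apply_apply, hσl]
      simp

theorem Cyc.pow_fix {n : ℕ} {g : Equiv.Perm (Fin n)} {F : Finset (Fin n)} (h : Cyc g F) (k : ℕ) :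
    ∀ i ∈ F, (g ^ k) i = i := by
  intro i hi
  induction k with
  | zero => simp
  | succ k ih => rw [pow_succ, Equiv.Perm.mul_apply, h.1 i hi, ih]

theorem Cyc.conj {n : ℕ} {g : Equiv.Perm (Fin n)} {F : Finset (Fin n)} (h : Cyc g F)
    (c : Equiv.Perm (Fin n)) : Cyc (c⁻¹ * g * c) (F.map c⁻¹.toEmbedding) := by
  have hpow : ∀ k : ℕ, (c⁻¹ * g * c) ^ k = c⁻¹ * g ^ k * c := by
    intro k
    have := conj_pow (i := k) (a := c⁻¹) (b := g)
    simpa using this
  constructor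
  · intro i hi
    rw [Finset.mem_map] at hi
    obtain ⟨j, hj, rfl⟩ := hi
    change c⁻¹ (g (c (c⁻¹ j))) = c⁻¹ j
    have h1 : c (c⁻¹ j) = j := by simp
    rw [h1, h.1 j hj]
  · intro i hi j hj
    have hI : ∀ i : Fin n, i ∉ F.map c⁻¹.toEmbedding → c i ∉ F := by
      intro i hi h'
      apply hi
      rw [Finset.mem_map]
      exact ⟨c i, h', by simp⟩
    obtain ⟨k, hk⟩ := h.2 _ (hI i hi) _ (hI j hj)
    refine ⟨k, ?_⟩
    rw [hpow]
    change c⁻¹ ((g ^ k) (c i)) = j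
    rw [hk]
    simp

theorem Cyc.support {n : ℕ} {g : Equiv.Perm (Fin n)} {F : Finset (Fin n)} (h : Cyc g F)
    (hF : F.card + 1 < n) : g.support = Fᶜ := by
  classical
  ext i
  rw [Equiv.Perm.mem_support, Finset.mem_compl]
  constructor
  · intro h1 h2
    exact h1 (h.1 i h2)
  · intro h1 h2
    have h3 : 1 < Fᶜ.card := by
      rw [Finset.card_compl, Fintype.card_fin]
      omega
    obtain ⟨j, hj, hne⟩ := Finset.exists_mem_ne h3 i
    rw [Finset.mem_compl] at hj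
    obtain ⟨k, hk⟩ := h.2 i h1 j hj
    apply hne
    rw [← hk]
    clear hk
    induction k with
    | zero => simp
    | succ k ih => rw [pow_succ, Equiv.Perm.mul_apply, h2, ih]

end Cfsg.Agent.H435.Fpr
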