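import Cfsg.Agent.H435.Fpr.LargeRow
import Cfsg.Agent.H435.Fpr.CoTwo
import Cfsg.Agent.KFacts.Baby.Sheet
import Cfsg.Agent.Schreier.CoTwoStab

/-!
# The row `p = 2` of the table of fixed point ratios for the Baby Monster
-/

set_option autoImplicit false
open Subgroup MulAction
open scoped Pointwise

namespace Cfsg.Agent.H435.Fpr.Baby

open Cfsg.Agent.H398.FPR (UGood)
open Cfsg Cfsg.Agent.BabyM Cfsg.Agent.BabyM.Model Cfsg.Agent.BabyU.ClosModel Cfsg.Agent.KFacts.AutLarge
open Cfsg.Agent.BabyU.ClosLane Cfsg.Agent.KFacts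

/-- The row of the model. -/
theorem row : Cfsg.Agent.H409.FprRow 3 1 2 Inst.M.G := by
  have := A.finite_G
  have hs : IsSimpleGroup Inst.M.G := A.simple
  obtain ⟨π, hπs, hπ⟩ := Baby.Inst.quot A
  obtain ⟨e⟩ := Schreier.CoTwoStab.exists_equiv _ GroupInst.dt_l₀
  obtain ⟨x, y, hy, hx, hxy⟩ := CoTwo.exists_real
  refine row_of_large (Baby.Inst.large A) (Baby.Inst.irr' A) (Baby.Inst.odd_index A) π hπs hπ
    (r := 11) (by norm_num) (by norm_num) (x := e.symm x) (y := e.symm y) ?_ ?_ ?_ ?_ ?_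
  · rw [← hy]
    exact orderOf_injective e.symm.toMonoidHom e.symm.injective y
  · obtain ⟨k, hk⟩ := hx
    refine ⟨k, ?_⟩
    rw [← hk]
    exact orderOf_injective e.symm.toMonoidHom e.symm.injective x
  · rw [← map_inv, ← map_mul, ← map_mul, hxy, map_inv]
  · exact (CoTwo.uGood_eleven hy).of_surjective (f := e.symm.toMonoidHom) e.symm.surjective
  · intro H hH
    have h1 := Cfsg.Agent.H394.SqBasic.le_index_of_prime_dvd hH (p := 47) (by norm_num)
      (by rw [A.card_G]; norm_num)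
    have h2 : Nat.card (Inst.M.G ⧸ H) = H.index := rfl
    omega

/-- `FprRow 3 1 2` for the Baby Monster. -/
theorem fprRow {M : Type*} [Group M] [IsSimpleGroup M] (h : Spor.IsoB M) :
    Cfsg.Agent.H409.FprRow 3 1 2 M := by
  have := A.finite_G
  obtain ⟨e⟩ := Baby.Sheet.exists_iso_of_isoB h
  exact row.of_mulEquiv Nat.prime_two e

end Cfsg.Agent.H435.Fpr.Baby
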