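import Cfsg.Agent.H409.FprBasic
import Cfsg.Agent.S0713

/-!
# Few fixed points from a small centraliser, and Jordan's bound for the index
-/

set_option autoImplicit false
open Subgroup MulAction
open scoped Pointwise Nat

namespace Cfsg.Agent.H435.Fpr

/-- The number of fixed points of `x ≠ 1` on the cosets of `H` is less than `|C(x)|`. -/
theorem fix_lt_card_centralizer {G : Type*} [Group G] [Finite G] {x : G} (hx : x ≠ 1)
    (H : Subgroup G) :
    Nat.card (fixedBy (G ⧸ H) x) < Nat.card (centralizer ({x} : Set G)) := by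
  classical
  have : Fintype G := Fintype.ofFinite G
  -- the elements conjugating `x` into `H`
  let A : Type _ := {g : G // g⁻¹ * x * g ∈ H}
  have h1 : Nat.card A = Nat.card (fixedBy (G ⧸ H) x) * Nat.card H := by
    have hm : ∀ g : G, (g⁻¹ * x * g ∈ H) ↔ x • (g : G ⧸ H) = (g : G ⧸ H) := by
      intro g
      change _ ↔ ((x * g : G) : G ⧸ H) = (g : G)
      rw [eq_comm, QuotientGroup.eq, mul_assoc]
    let f : A → fixedBy (G ⧸ H) x := fun g => ⟨(g.1 : G ⧸ H), (hm g.1).1 g.2⟩
    have : Fintype (fixedBy (G ⧸ H) x) := Fintype.ofFinite _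
    rw [Nat.card_congr (Equiv.sigmaFiberEquiv f).symm, Nat.card_sigma]
    have hfib : ∀ z : fixedBy (G ⧸ H) x, Nat.card {g : A // f g = z} = Nat.card H := by
      rintro ⟨z, hz⟩
      obtain ⟨c, rfl⟩ := QuotientGroup.mk_surjective z
      refine Nat.card_congr ⟨fun g => ⟨c⁻¹ * g.1.1, QuotientGroup.eq.1 (congrArg
        (fun w : fixedBy (G ⧸ H) x => (w : G ⧸ H)) g.2).symm⟩,
        fun h => ⟨⟨c * h.1, ?_⟩, ?_⟩, ?_, ?_⟩
      · rw [hm]
        have h3 : ((c * h.1 : G) : G ⧸ H) = (c : G) := by
          rw [eq_comm, QuotientGroup.eq]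
          simp
        rw [h3]
        exact hz
      · apply Subtype.ext
        change ((c * h.1 : G) : G ⧸ H) = (c : G)
        rw [eq_comm, QuotientGroup.eq]
        simp
      · intro g; apply Subtype.ext; apply Subtype.ext; simp
      · intro h; apply Subtype.ext; simp
    simp only [hfib]
    rw [Finset.sum_const, Finset.card_univ, smul_eq_mul,
      ← Nat.card_eq_fintype_card (α := fixedBy (G ⧸ H) x)]
  have h2 : Nat.card A ≤ Nat.card (centralizer ({x} : Set G)) * Nat.card {h : H // h ≠ 1} := by
    -- choose a conjugating element for each value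
    have hex : ∀ h : {h : H // h ≠ 1}, ∃ c : G, (∃ g : G, g⁻¹ * x * g = h.1) → c⁻¹ * x * c = h.1 := by
      intro h
      by_cases hh : ∃ g : G, g⁻¹ * x * g = h.1
      · obtain ⟨g, hg⟩ := hh
        exact ⟨g, fun _ => hg⟩
      · exact ⟨1, fun h' => absurd h' hh⟩
    choose c hc using hex
    rw [← Nat.card_prod]
    let val : A → {h : H // h ≠ 1} := fun g => ⟨⟨g.1⁻¹ * x * g.1, g.2⟩, by
      intro h
      apply hx
      have h3 : g.1⁻¹ * x * g.1 = 1 := congrArg Subtype.val h
      have : x = g.1 * (g.1⁻¹ * x * g.1) * g.1⁻¹ := by group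
      rw [this, h3]
      group⟩
    refine Nat.card_le_card_of_injective (fun g => (⟨g.1 * (c (val g))⁻¹, ?_⟩, val g)) ?_
    · rw [mem_centralizer_singleton_iff]
      have h3 : (c (val g))⁻¹ * x * c (val g) = g.1⁻¹ * x * g.1 := hc (val g) ⟨g.1, rfl⟩
      have h4 : x * c (val g) = c (val g) * (g.1⁻¹ * x * g.1) := by rw [← h3]; group
      have h5 : x = c (val g) * (g.1⁻¹ * x * g.1) * (c (val g))⁻¹ := by rw [← h4]; group
      calc g.1 * (c (val g))⁻¹ * x =
          g.1 * (c (val g))⁻¹ * (c (val g) * (g.1⁻¹ * x * g.1) * (c (val g))⁻¹) := by rw [← h5]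
        _ = x * (g.1 * (c (val g))⁻¹) := by group
    · intro g g' hgg
      have h3 : val g = val g' := congrArg Prod.snd hgg
      have h4 : g.1 * (c (val g))⁻¹ = g'.1 * (c (val g'))⁻¹ := congrArg (fun z => (z.1 : G)) hgg
      rw [h3] at h4
      exact Subtype.ext (mul_right_cancel h4)
  have h3 : Nat.card {h : H // h ≠ 1} = Nat.card H - 1 := by
    have : Fintype H := Fintype.ofFinite _
    rw [Nat.card_eq_fintype_card, Fintype.card_subtype_compl, Fintype.card_subtype_eq,
      ← Nat.card_eq_fintype_card]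
  rw [h1, h3] at h2
  have h4 : 0 < Nat.card H := Nat.card_pos
  have h5 : 0 < Nat.card (centralizer ({x} : Set G)) := Nat.card_pos
  by_contra hcon
  push Not at hcon
  have h6 := Nat.mul_le_mul_right (Nat.card H) hcon
  have h7 : Nat.card (centralizer ({x} : Set G)) * (Nat.card H - 1) <
      Nat.card (centralizer ({x} : Set G)) * Nat.card H := by
    apply Nat.mul_lt_mul_of_pos_left _ h5
    omega
  omega

/-- Jordan: the index of a maximal subgroup of a simple group of order divisible by the prime `r`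
is at least `2 r` or at most `r + 2`, or the group is large. -/
theorem index_jordan {G : Type*} [Group G] [Finite G] [IsSimpleGroup G] {H : Subgroup G}
    (hH : IsCoatom H) {r : ℕ} (hr : r.Prime) (hrG : r ∣ Nat.card G) (h5 : 5 ≤ H.index)
    (hbig : 2 * Nat.card G < (r + 3)!) :
    2 * r ≤ H.index ∨ H.index < r + 3 := by
  classical
  by_contra hcon
  push Not at hcon
  obtain ⟨hlt, hge⟩ := hcon
  have : Fintype (G ⧸ H) := Fintype.ofFinite _
  have hcard : Fintype.card (G ⧸ H) = H.index := by
    rw [← Nat.card_eq_fintype_card]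
    rfl
  let act : G →* Equiv.Perm (G ⧸ H) := toPermHom G (G ⧸ H)
  have hinj : Function.Injective act := by
    rw [← MonoidHom.ker_eq_bot_iff]
    rcases IsSimpleGroup.eq_bot_or_eq_top_of_normal act.ker inferInstance with h | h
    · exact h
    · exfalso
      apply hH.1
      rw [eq_top_iff]
      intro g _
      have h1 : g ∈ act.ker := by rw [h]; trivial
      rw [MonoidHom.mem_ker] at h1
      have h2 : act g ((1 : G) : G ⧸ H) = ((1 : G) : G ⧸ H) := by rw [h1]; rfl
      have h3 : ((g * 1 : G) : G ⧸ H) = ((1 : G) : G ⧸ H) := h2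
      rw [QuotientGroup.eq, mul_one, mul_one] at h3
      have := inv_mem h3
      rwa [inv_inv] at this
  have hprim0 : IsPreprimitive G (G ⧸ H) := by
    have : Nontrivial (G ⧸ H) := by
      rw [← Finite.one_lt_card_iff_nontrivial, Nat.card_eq_fintype_card, hcard]
      omega
    rw [← isCoatom_stabilizer_iff_preprimitive G ((1 : G) : G ⧸ H), stabilizer_quotient]
    exact hH
  have hprim : IsPreprimitive act.range (G ⧸ H) := by
    let f : (G ⧸ H) →ₑ[act.rangeRestrict] (G ⧸ H) := ⟨id, fun g z => rfl⟩
    exact IsPreprimitive.of_surjective (f := f) Function.surjective_id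
  have : Fact r.Prime := ⟨hr⟩
  obtain ⟨g, hg⟩ := exists_prime_orderOf_dvd_card' r hrG
  have hgo : orderOf (act g) = r := by rw [orderOf_injective act hinj, hg]
  have hcyc : (act g).IsCycle := Equiv.Perm.isCycle_of_prime_order' (by rw [hgo]; exact hr) (by
    rw [hgo, hcard]; omega)
  have hsupp : (act g).support.card = r := by rw [← hcyc.orderOf, hgo]
  have h1 := Cfsg.Agent.S0713.result act.range hprim hr (by rw [hcard]; exact h5)
    (by rw [hcard]; omega) hcyc hsupp ⟨g, rfl⟩
  have h2 := Subgroup.card_le_of_le h1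
  have h3 : Nat.card act.range = Nat.card G :=
    Nat.card_congr (act.ofInjective hinj).symm.toEquiv
  have hnt : Nontrivial (G ⧸ H) := by
    rw [← Finite.one_lt_card_iff_nontrivial, Nat.card_eq_fintype_card, hcard]
    omega
  have h4 : 2 * Nat.card (alternatingGroup (G ⧸ H)) = (H.index)! := by
    rw [two_mul_nat_card_alternatingGroup, Nat.card_perm, Nat.card_eq_fintype_card, hcard]
  have h5' : (r + 3)! ≤ (H.index)! := Nat.factorial_le hge
  omega

end Cfsg.Agent.H435.Fpr
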