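import Cfsg.Agent.H435.Fpr.ExcThree
import Cfsg.Agent.H400.FprD4H

/-!
# `³D₄(q)`, `q ≥ 8` even, `p = 3 ∣ q + 1`: growth through the long root `SL₂(q)`
-/

set_option autoImplicit false
set_option linter.unusedSectionVars false
set_option linter.unusedVariables false

namespace Cfsg.Agent.H435.Fpr.Exc

open CoxeterSystem Cfsg.Agent.ChevalleyStructure.CoxeterGeom Cfsg.Agent.Tits.Roots Cfsg.Agent.Tits.Core
  Cfsg.Agent.Nodes.Reps Cfsg.Agent.Nodes.BNOf Cfsg.Agent.Nodes.RGDTwGen Cfsg.Agent.Nodes.RGDChev Cfsg.Agent.Nodes.RGDFold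
  Cfsg.Agent.Nodes.KindChev Cfsg.Agent.Nodes.Coroot Cfsg.Agent.Nodes.PosPair Cfsg.Agent.Nodes.LeviDec
  Cfsg.Agent.Nodes.StabComb Cfsg.Agent.Nodes.Bruhat Cfsg.Agent.Nodes.Unique
open Cfsg.Lie Cfsg.Agent.ChevalleyStructure
open Cfsg.Agent.ChevalleyStructure.TwistedU Cfsg.Agent.ChevalleyStructure.D4U
  Cfsg.Agent.ChevalleyStructure.D4Comm Cfsg.Agent.ChevalleyStructure.D4RGD Cfsg.Agent.ChevalleyStructure.D4Twisted
open Cfsg.Agent.ChevalleyStructure.D4NConj (nR nR_def nG nG_def nG_conj hR hR_def)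
open Cfsg.Agent.ChevalleyStructure.D4HConj (hR_conj)
open Cfsg.Agent.ChevalleyStructure.SparseHDiag (cartanRS)
open Cfsg.Agent.Nodes.RGDTwD4 (A isCartan foldData hp)
open Cfsg.Agent.Hexagon.TwD4Par Cfsg.Agent.Hexagon.TwD4Rel
open Cfsg.Agent.SplitTwo
open Cfsg.Agent.Omega.EH3.Kf
open Cfsg.Agent.H400.TwoExc Cfsg.Agent.H400.TwoExc.TwD Cfsg.Agent.H400.Fpr Cfsg.Agent.H400.Fpr.D4
open Cfsg.Agent.H398.FPR (CommFull UGood Pair growth_uGood)
open Cfsg.Agent.H409 (FprRow)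
open Cfsg.Agent.Nodes.RGDFoldSL
open Cfsg.Agent.ChevalleyStructure.SL2Hom (mem_closure_SL2)
open scoped commutatorElement MatrixGroups

universe u

variable {K : Type u} [Field K] [Fintype K] {q : ℕ} {φ : K →+* K}

/-- the long root `SL₂(q)` in `³D₄(q)` -/
theorem psiD_mem (hφ : ∀ x, φ x = x ^ q) {σ : K ≃+* K} (hσ : ∀ x, σ x = φ x)
    (g : Matrix.SpecialLinearGroup (Fin 2) (Fk σ)) :
    psi hp.inList K 23 (Matrix.SpecialLinearGroup.map (Fk σ).subtype g) ∈ twistedD4 K q := by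
  have h1 : Subgroup.closure (Set.range (SL2Hom.up (F := Fk σ)) ∪ Set.range (SL2Hom.lo (F := Fk σ))) ≤
      (twistedD4 K q).comap
        ((psi hp.inList K 23).comp (Matrix.SpecialLinearGroup.map (Fk σ).subtype)) := by
    rw [Subgroup.closure_le]
    rintro _ (⟨a, rfl⟩ | ⟨a, rfl⟩)
    · show psi hp.inList K 23 (Matrix.SpecialLinearGroup.map (Fk σ).subtype (SL2Hom.up a)) ∈
        twistedD4 K q
      rw [map_up, psi_up hp.inList (by decide +kernel), Nodes.RGDTwD4.xG_eq]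
      exact x23_tw hφ hσ (by rw [← hσ]; exact a.2)
    · show psi hp.inList K 23 (Matrix.SpecialLinearGroup.map (Fk σ).subtype (SL2Hom.lo a)) ∈
        twistedD4 K q
      rw [map_lo, psi_lo hp.inList (by decide +kernel), Nodes.RGDTwD4.xG_eq]
      exact x0_tw hφ (by rw [← hσ]; exact a.2)
  exact h1 (mem_closure_SL2 g)

/-- the homomorphism -/
noncomputable def phiD (hφ : ∀ x, φ x = x ^ q) {σ : K ≃+* K} (hσ : ∀ x, σ x = φ x) :
    Matrix.SpecialLinearGroup (Fin 2) (Fk σ) →* ↥(twistedD4 K q) :=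
  ((psi hp.inList K 23).comp (Matrix.SpecialLinearGroup.map (Fk σ).subtype)).codRestrict _
    (psiD_mem hφ hσ)

/-- **`³D₄(q)`, `p = 3`.** -/
theorem three_3D4 (hs : IsSimpleGroup ↥(twistedD4 K q))
    (hK : Fintype.card K = q ^ 3) (hφ : ∀ x, φ x = x ^ q) [CharP K 2] (h8 : 8 ≤ q) (h3 : 3 ∣ q + 1) :
    FprRow (3 + 1) 1 3 ↥(twistedD4 K q) := by
  have hq1 : 1 < q := by omega
  obtain ⟨σ, hσ, hB, P⟩ := exists_sigma hK hφ
  let cs : CoxeterSystem CoxeterMatrix.G₂ _ := CoxeterMatrix.G₂.toCoxeterSystem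
  have hW : Finite CoxeterMatrix.G₂.Group := Nodes.RGDFold.finite_W (hp := Nodes.RGDTwD4.hp) cs isCartan foldData
  have R := Nodes.RGDTwD4.rgd cs hK hφ 2
  have hG1 := Nodes.RGDTwD4.G1_eq_top cs hK hφ
  have hle := D4Fixed.twisted_le_fix hK hφ
  obtain ⟨a, ha⟩ := exists_pow hK 2
  obtain ⟨ℓ, hℓ, hℓ2, hd, hM⟩ := exists_prime_eight ha h8 h3
  have : Fact ℓ.Prime := ⟨hℓ⟩
  have H := (gi (cs := cs) 2 hK hφ).hs
  have hfin : Finite ↥(twistedD4 K q) := inferInstance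
  obtain ⟨g, hg, hg0, hgo⟩ := exists_gen (natCard_Fk hK hφ hσ hq1) hq1
  obtain ⟨c, hc⟩ := hd
  set t := g ^ c with ht'
  have ht : σ t = t := by rw [ht', map_pow, hg]
  have ht0 : t ≠ 0 := pow_ne_zero _ hg0
  have htℓ : t ^ ℓ = 1 := by rw [ht', ← pow_mul, mul_comm, ← hc, ← hgo, pow_orderOf_eq_one]
  have ht2 : t ^ 2 ≠ 1 := by
    intro h1
    rw [ht', ← pow_mul] at h1
    have h2 := orderOf_dvd_of_pow_eq_one h1
    rw [hgo, hc, mul_comm c 2] at h2
    have hc0 : 0 < c := Nat.pos_of_ne_zero (by rintro rfl; omega)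
    have h3 := Nat.dvd_of_mul_dvd_mul_right hc0 h2
    exact hℓ2 ((Nat.prime_dvd_prime_iff_eq hℓ Nat.prime_two).1 h3)
  have htφ : φ t = t := by rw [← hσ, ht]
  have hcr := card_X (cs := cs) 2 hK hφ hq1 (gr (cs := cs)).rr
  have he1 : eG2t (toV [2, 3]) = 1 := by decide +kernel
  rw [he1, pow_one] at hcr
  have hxk : (⟨hR 23 t, hr_tw hφ hσ htφ⟩ : ↥(twistedD4 K q)) ^ ℓ ^ 1 = 1 := by
    rw [pow_one]
    exact Subtype.ext (by rw [Subgroup.coe_pow]; exact hR_pow_one ht0 htℓ)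
  have h13 : toV [1, 3] ∈ Gt cs isCartan (toV [2, 3]) := by
    refine ⟨(pr cs).1.isRoot (List.mem_map.2 ⟨([1, 3], [-3, 3], 1), by decide +kernel, rfl⟩), ?_⟩
    rw [cpr_val (gr (cs := cs)).hd (gr (cs := cs)).rr (c := 1) (by decide +kernel) (by decide +kernel)]
    norm_num
  have key := one_of_par (k := 1) (M' := 8) H hs hG1 hℓ (diag_mem ht0 (hr_tw hφ hσ htφ)) hxk ht2
    (fun s hs hsr => spar hφ hle hσ P htφ ht0 hs hsr) (spar_r hφ hle hσ P htφ ht0) (isPGroup_QQ hK hφ hq1 2)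
    ⟨toV [1, 3], h13, by decide +kernel⟩ hM (by rw [hcr]; exact h8)
  -- growth
  have hfinK : Finite (Fk σ) := inferInstance
  have := Fintype.ofFinite (Fk σ)
  have hcF : Fintype.card (Fk σ) = q := by
    rw [← Nat.card_eq_fintype_card]
    exact natCard_Fk hK hφ hσ hq1
  have hch : CharP (Fk σ) 2 := inferInstance
  obtain ⟨x0, hx0⟩ := exists_order_three (K := Fk σ)
  have hx0U := Cfsg.Agent.H452.FprJ1.sl_ugood (F := Fk σ) (by rw [hcF]; exact h8)
    (by rw [hcF]; exact h3) hx0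
  apply row_of_exists
  refine ⟨phiD hφ hσ x0, by rw [← map_pow, ← hx0, pow_orderOf_eq_one, map_one], ?_⟩
  have h7' := hx0U.of_surjective (phiD hφ hσ).rangeRestrict_surjective
  have hy : (⟨hR 23 t, hr_tw hφ hσ htφ⟩ : ↥(twistedD4 K q)) ∈ (phiD hφ hσ).range := by
    refine ⟨hS ⟨t, ht⟩, Subtype.ext ?_⟩
    show psi hp.inList K 23 (Matrix.SpecialLinearGroup.map (Fk σ).subtype (hS ⟨t, ht⟩)) = hR 23 t
    rw [map_hS]
    unfold hS wS
    rw [map_mul, map_mul, map_mul, map_mul, map_mul, psi_up hp.inList (by decide +kernel),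
      psi_up hp.inList (by decide +kernel), psi_lo hp.inList (by decide +kernel),
      psi_lo hp.inList (by decide +kernel), Nodes.RGDTwD4.xG_eq, hR_def, nR_def, nR_def]
    rfl
  have hg := growth_uGood (K := (phiD hφ hσ).range) (x := phiD hφ hσ x0) ⟨x0, rfl⟩ hy (by norm_num)
    h7' key
  exact hg.mono (by norm_num) (by norm_num)

end Cfsg.Agent.H435.Fpr.Exc
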