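import Cfsg.Agent.H435.Fpr.NineM
import Cfsg.Agent.H435.Fpr.CenterFix
import Cfsg.Agent.KFacts.HN.Sheet
import Cfsg.Agent.KFacts.HN.Classes
import Cfsg.Agent.H394.SqBasic

/-!
# The row of the Harada-Norton group, `p = 2`
-/

set_option autoImplicit false
set_option Elab.async false
open Subgroup MulAction

namespace Cfsg.Agent.H435.Fpr.HN

open Cfsg.Agent.HN Cfsg.Agent.HN.XMat Cfsg.Agent.HN.XStruct Cfsg.Agent.HN.XWords
open Cfsg.Agent.HN.XQuot Cfsg.Agent.HN.XInst Cfsg.Agent.KFacts.HN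
open Cfsg.Agent.H398.FPR (UGood cset card_cset_le)

/-- words of two elements of order three -/
def w1 : List ℕ := [0, 0, 2, 0, 2, 0, 0]
def w2 : List ℕ := [0, 1, 1, 1, 0, 2, 1]

theorem e_mul (v w : List ℕ) : e v * e w = e (v ++ w) := (e_append v w).symm

instance finite_Lq : Finite Lq := by
  have := finite_HN
  infer_instance

theorem pair_of {w : List ℕ} (h3 : mw (w ++ (w ++ w)) = mw []) (h1 : mw w ≠ mw [])
    (hc : mw (w ++ ([1] ++ w ++ [1, 1, 1])) = mw ([1] ++ w ++ [1, 1, 1] ++ w))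
    (h2 : mw ([1] ++ ([1] ++ w ++ [1, 1, 1]) ++ [1, 1, 1] ++ w) = mw []) :
    PairM 9 (e [1]) (zpowers (e w) ⊔ zpowers (e ([1] ++ w ++ [1, 1, 1]))) := by
  apply pairM_nine
  · rw [pow_three, e_mul, e_mul, ← e_nil]
    exact e_eq h3
  · intro h
    rw [← e_nil] at h
    exact h1 (mw_of_e h)
  · rw [e_mul, e_mul]
    exact e_eq hc
  · rw [e_inv1, e_mul, e_mul]
  · rw [e_inv1, e_mul, e_mul, eq_inv_iff_mul_eq_one, e_mul, ← e_nil]
    exact e_eq h2

theorem pair1 : PairM 9 (e [1]) (zpowers (e w1) ⊔ zpowers (e ([1] ++ w1 ++ [1, 1, 1]))) :=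
  pair_of (by decide +kernel) (by decide +kernel) (by decide +kernel) (by decide +kernel)

theorem pair2 : PairM 9 (e [1]) (zpowers (e w2) ⊔ zpowers (e ([1] ++ w2 ++ [1, 1, 1]))) :=
  pair_of (by decide +kernel) (by decide +kernel) (by decide +kernel) (by decide +kernel)

theorem e0_eq : e [0] = e w2 * e [1] * e w1 * e w1 * e w2 * e w2 * e [1] * e w1 := by
  simp only [e_mul]
  exact e_eq (by decide +kernel)

theorem e2_eq : e [2] = e [1] * e [1] * e [1] * e w2 * e [1] * e w1 := by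
  simp only [e_mul]
  exact e_eq (by decide +kernel)

theorem gen_top {T : Subgroup Lq} (hx : e [1] ∈ T) (h1 : e w1 ∈ T) (h2 : e w2 ∈ T) : T = ⊤ := by
  rw [eq_top_iff]
  intro y _
  obtain ⟨w, rfl⟩ := exists_word y
  have h0 : e [0] ∈ T := by
    rw [e0_eq]
    exact T.mul_mem (T.mul_mem (T.mul_mem (T.mul_mem (T.mul_mem (T.mul_mem (T.mul_mem h2 hx) h1)
      h1) h2) h2) hx) h1
  have h2' : e [2] ∈ T := by
    rw [e2_eq]
    exact T.mul_mem (T.mul_mem (T.mul_mem (T.mul_mem (T.mul_mem hx hx) hx) h2) hx) h1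
  induction w with
  | nil => exact T.one_mem
  | cons g w ih =>
    have h3 : e (g :: w) = e [g] * e w := e_append [g] w
    rw [h3]
    apply T.mul_mem _ (ih trivial)
    rcases Nat.lt_or_ge g 2 with hg | hg
    · interval_cases g
      · exact h0
      · exact hx
    · rw [e_ge g hg]
      exact h2'

theorem uGood_Lq : UGood 1 5 (e [1]) := by
  have h := T3M_uGood (M := 9) (by norm_num) (ι := Bool) (x := e [1])
    (fun b => cond b (zpowers (e w1) ⊔ zpowers (e ([1] ++ w1 ++ [1, 1, 1])))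
      (zpowers (e w2) ⊔ zpowers (e ([1] ++ w2 ++ [1, 1, 1]))))
    (by rintro (_ | _)
        · exact pair2
        · exact pair1)
    (by
      apply gen_top
      · exact subset_closure (Or.inl rfl)
      · exact subset_closure (Or.inr (Set.mem_iUnion.2 ⟨true, mem_sup_left (mem_zpowers _)⟩))
      · exact subset_closure (Or.inr (Set.mem_iUnion.2 ⟨false, mem_sup_left (mem_zpowers _)⟩)))
  rw [Fintype.card_bool] at h
  exact h.mono (by norm_num) (by norm_num)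

end Cfsg.Agent.H435.Fpr.HN

namespace Cfsg.Agent.H435.Fpr.HN

open Cfsg.Agent.HN Cfsg.Agent.HN.XMat Cfsg.Agent.HN.XStruct Cfsg.Agent.HN.XWords
open Cfsg.Agent.HN.XQuot Cfsg.Agent.HN.XInst Cfsg.Agent.KFacts.HN
open Cfsg.Agent.H398.FPR (UGood cset card_cset_le)

/-- the element of `C(W0)` -/
noncomputable def x : PP := ⟨evw Γ [1], e_mem_PP [1]⟩

/-- the elements of `R` -/
noncomputable def rP (m : ℕ) : PP := ⟨r Q m, r_mem_PP m⟩

theorem ρ_x : ρ x = e [1] := ρ_e [1]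

instance finite_PP : Finite PP := by
  have := finite_HN
  infer_instance

theorem nilp_ker : Group.IsNilpotent ρ.ker := by
  have : Fact (Nat.Prime 2) := ⟨Nat.prime_two⟩
  exact (IsPGroup.of_card (p := 2) (n := 9) (by rw [card_ker]; norm_num)).isNilpotent

theorem rP_mem {m : ℕ} (hm : m < 256) : rP m ∈ ρ.ker := by
  have h := r_mem_RS hm
  obtain ⟨u, hu, h1⟩ := h
  have h2 : u = rP m := Subtype.ext h1
  rw [← h2]
  exact hu

/-- the commutators -/
theorem π_comm (m : ℕ) :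
    π W0 (((rP (app MC m))⁻¹ * x * rP (app MC m) * x⁻¹ : PP) : Cfsg.Spor.HN) =
      r k (app MC m ^^^ m) := by
  have hx := mem_PP.1 x.2
  have hr := comm_r (app MC m)
  have h1 : ((((rP (app MC m))⁻¹ * x * rP (app MC m) * x⁻¹ : PP)) : Cfsg.Spor.HN) =
      (r Q (app MC m))⁻¹ * (x : Cfsg.Spor.HN) * r Q (app MC m) * (x : Cfsg.Spor.HN)⁻¹ := rfl
  rw [h1, π_mul (comm_mul (comm_mul (comm_inv hr) hx) hr) (comm_inv hx),
    π_mul (comm_mul (comm_inv hr) hx) hr, π_mul (comm_inv hr) hx, π_inv hr, π_inv hx]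
  have h2 : π W0 (x : Cfsg.Spor.HN) = evw γ [1] := π_e [1]
  have h3 : (evw γ [1])⁻¹ * r k m * evw γ [1] = r k (app MC m) := by
    have h4 : mw [1] = MC := by decide +kernel
    rw [← h4]
    exact hyp.toBas.acts_r (hyp.toBas.acts_evw [1]) m
  rw [h2, π_r, hyp.toBas.r_xor, hyp.toBas.r_inv]
  rw [← h3]
  have h5 := hyp.toBas.r_sq m
  group

/-- the masks -/
def ms (i : Fin 8) : ℕ := 2 * i

theorem chk_ms : ∀ i j : Fin 8, i ≠ j →
    (app MC (ms i) ^^^ ms i) ^^^ (app MC (ms j) ^^^ ms j) ≠ 0 := by decide +kernel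

theorem xor_lt (i j : Fin 8) : (app MC (ms i) ^^^ ms i) ^^^ (app MC (ms j) ^^^ ms j) < 256 := by
  have h : ∀ i : Fin 8, app MC (ms i) ^^^ ms i < 256 := fun i =>
    Nat.xor_lt_two_pow (n := 8) (app_lt _ _) (by
      have := i.2
      change 2 * (i : ℕ) < 2 ^ 8
      omega)
  exact Nat.xor_lt_two_pow (n := 8) (h i) (h j)

theorem uGood_PP : UGood 1 5 x := by
  have := nilp_ker
  refine UGood.growth (N := ρ.ker) ρ ρ_surj rfl (by rw [ρ_x]; exact uGood_Lq) ?_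
  intro M hM hNM hn _
  rw [one_mul]
  refine le_trans (Nat.mul_le_mul_right _ (show 5 ≤ 8 by norm_num)) ?_
  refine card_cset_le hM hNM (fun i : Fin 8 => rP (app MC (ms i)))
    (fun i => rP_mem (app_lt _ _)) ?_
  intro i j hij hmem
  -- the element of `M ∩ R`
  obtain ⟨y, hy⟩ : ∃ y : PP, y = (rP (app MC (ms i)))⁻¹ * x * rP (app MC (ms i)) * x⁻¹ *
    ((rP (app MC (ms j)))⁻¹ * x * rP (app MC (ms j)) * x⁻¹)⁻¹ := ⟨_, rfl⟩
  rw [← hy] at hmem
  have hc : ∀ i : Fin 8, (rP (app MC (ms i)))⁻¹ * x * rP (app MC (ms i)) * x⁻¹ ∈ ρ.ker := by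
    intro i
    have h1 : (rP (app MC (ms i)))⁻¹ * x * rP (app MC (ms i)) * x⁻¹ =
        (rP (app MC (ms i)))⁻¹ * (x * rP (app MC (ms i)) * x⁻¹) := by group
    rw [h1]
    exact mul_mem (inv_mem (rP_mem (app_lt _ _)))
      ((inferInstance : ρ.ker.Normal).conj_mem _ (rP_mem (app_lt _ _)) _)
  have hyN : y ∈ ρ.ker := by
    rw [hy]
    exact mul_mem (hc i) (inv_mem (hc j))
  have hD : (∀ z ∈ (M ⊓ ρ.ker).map PP.subtype, z = 1 ∨ z = W0) ∨
      (M ⊓ ρ.ker).map PP.subtype = RS := by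
    apply irr
    · rintro _ ⟨z, hz, rfl⟩
      exact ⟨z, (mem_inf.1 hz).2, rfl⟩
    · rintro u hu _ ⟨z, hz, rfl⟩
      exact ⟨⟨u, MM_le_PP hu⟩ * z * ⟨u, MM_le_PP hu⟩⁻¹, hn.conj_mem z hz _, rfl⟩
  rcases hD with h | h
  · have h1 : (y : Cfsg.Spor.HN) = 1 ∨ (y : Cfsg.Spor.HN) = W0 :=
      h _ ⟨y, mem_inf.2 ⟨hmem, hyN⟩, rfl⟩
    have h2 : π W0 (y : Cfsg.Spor.HN) = 1 := (π_eq_one_iff W0_sq (mem_PP.1 y.2)).2 h1
    have hci := mem_PP.1 (((rP (app MC (ms i)))⁻¹ * x * rP (app MC (ms i)) * x⁻¹ : PP)).2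
    have hcj := mem_PP.1 (((rP (app MC (ms j)))⁻¹ * x * rP (app MC (ms j)) * x⁻¹ : PP)).2
    have h3 : (y : Cfsg.Spor.HN) =
        (((rP (app MC (ms i)))⁻¹ * x * rP (app MC (ms i)) * x⁻¹ : PP) : Cfsg.Spor.HN) *
        (((rP (app MC (ms j)))⁻¹ * x * rP (app MC (ms j)) * x⁻¹ : PP) : Cfsg.Spor.HN)⁻¹ := by
      rw [hy]
      rfl
    rw [h3, π_mul hci (comm_inv hcj), π_inv hcj, π_comm, π_comm, hyp.toBas.r_inv,
      ← hyp.toBas.r_xor] at h2
    exact chk_ms i j hij (hyp.toBas.inj _ (xor_lt i j) h2)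
  · apply hNM
    intro z hz
    have h1 : (z : Cfsg.Spor.HN) ∈ (M ⊓ ρ.ker).map PP.subtype := by
      rw [h]
      exact ⟨z, hz, rfl⟩
    obtain ⟨z', hz', h2⟩ := h1
    have h3 : z' = z := Subtype.ext h2
    rw [← h3]
    exact (mem_inf.1 hz').1

theorem x_pow : (x : Cfsg.Spor.HN) ^ 8 = 1 := by
  have h1 : (x : Cfsg.Spor.HN) = V (gw 1) := by
    change evw Γ [1] = _
    rw [evw_cons, evw_nil, mul_one]
    rfl
  rw [h1]
  have h2 : V (gw 1) ^ 8 = V (gw 1 ++ (gw 1 ++ (gw 1 ++ (gw 1 ++ (gw 1 ++ (gw 1 ++ (gw 1 ++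
      gw 1))))))) := by
    simp only [V_append]
    simp only [pow_succ, pow_zero, one_mul, mul_assoc]
  rw [h2, ← V_nil]
  exact V_eq (by decide +kernel)

theorem orderOf_x : ∃ n : ℕ, orderOf (x : Cfsg.Spor.HN) = 2 ^ n := by
  have h : orderOf (x : Cfsg.Spor.HN) ∣ 2 ^ 3 := orderOf_dvd_of_pow_eq_one (by
    rw [show (2 : ℕ) ^ 3 = 8 by norm_num]; exact x_pow)
  obtain ⟨n, -, hn⟩ := (Nat.dvd_prime_pow Nat.prime_two).1 h
  exact ⟨n, hn⟩

theorem row : Cfsg.Agent.H409.FprRow 3 1 2 Cfsg.Spor.HN := by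
  have := finite_HN
  have hsimple : IsSimpleGroup Cfsg.Spor.HN := simple_HN
  have : Fact (Nat.Prime 2) := ⟨Nat.prime_two⟩
  have hW0 : orderOf W0 = 2 := orderOf_eq_prime (by rw [pow_two]; exact W0_sq) W0_ne
  refine fprRow_of_center (z := W0) (p := 2) Classes.T ?_ ?_ x.2 orderOf_x
    (uGood_PP.mono (by norm_num) (by norm_num)) ?_
  · intro t ht
    exact Classes.T_le ht
  · intro y hy hc
    have hyo : orderOf y = 2 := by
      obtain ⟨c, rfl⟩ := isConj_iff.1 hy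
      rw [← hW0]
      exact orderOf_injective (MulAut.conj c).toMonoidHom (MulAut.conj c).injective W0
    have hyT : y ∈ Classes.T := mem_sylow_of_comm _ ⟨1, by rw [hyo]; norm_num⟩ hc
    have h1 := SylCenter.center_T Cfsg.Agent.KFacts.HN.YTrick.hinj (Classes.mem_T.1 hyT)
      (fun t ht => (hc t ht).symm)
    rcases Classes.eq_of_mem_Pc1 h1 with h | h
    · exfalso
      rw [h, orderOf_one] at hyo
      norm_num at hyo
    · exact h
  · intro H hH
    have h1 := Cfsg.Agent.H394.SqBasic.le_index_of_prime_dvd hH (p := 19) (by norm_num)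
      (by rw [Classes.card_HN]; norm_num)
    have h2 : Nat.card (Cfsg.Spor.HN ⧸ H) = H.index := rfl
    omega

/-- `FprRow 3 1 2` for the Harada-Norton group. -/
theorem fprRow {M : Type*} [Group M] (h : Cfsg.Spor.IsoHN M) :
    Cfsg.Agent.H409.FprRow 3 1 2 M := by
  have := finite_HN
  obtain ⟨e⟩ := h
  exact row.of_mulEquiv Nat.prime_two e.symm

end Cfsg.Agent.H435.Fpr.HN
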