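import Cfsg.Agent.H435.Fpr.SheetRow
import Cfsg.Agent.KFacts.AutLarge

/-!
# The row `p = 2` of a group with a large extraspecial subgroup, form with `Large`
-/

set_option autoImplicit false
open Subgroup MulAction
open scoped Pointwise

namespace Cfsg.Agent.H435.Fpr

open Cfsg.Agent.H398.FPR (UGood)
open Cfsg.Agent.Co2Type.Quad Cfsg.Agent.KFacts.AutLarge

/-- a Sylow subgroup of `C(z)` -/
theorem exists_sylow_large {K : Type*} [Group K] [Finite K] {Q : Subgroup K} {z : K}
    (h : Large Q z) (ho : Odd (centralizer ({z} : Set K)).index) :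
    ∃ T : Sylow 2 K, z ∈ T ∧ (∀ x ∈ T, x * z = z * x) ∧
      ∀ y ∈ T, (∀ x ∈ T, x * y = y * x) → y = 1 ∨ y = z := by
  have h2F : Fact (Nat.Prime 2) := ⟨Nat.prime_two⟩
  have hQC : Q ≤ centralizer ({z} : Set K) := fun x hx =>
    mem_centralizer_singleton_iff.2 (h.comm_z x hx)
  have hQ2 : IsPGroup 2 (Q.subgroupOf (centralizer ({z} : Set K))) := by
    rintro ⟨x, hx⟩
    refine ⟨2, Subtype.ext (Subtype.ext ?_)⟩
    have hx' : (x : K) ∈ Q := hx
    have h1 : (x : K) ^ 2 ^ 2 = 1 := by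
      have h2 : (x : K) ^ 2 ^ 2 = ((x : K) * x) * ((x : K) * x) := by
        rw [show (2 : ℕ) ^ 2 = 2 * 2 by norm_num, pow_mul, pow_two, pow_two]
      rw [h2]
      rcases h.sq _ hx' with h3 | h3
      · rw [h3, mul_one]
      · rw [h3, h.z_sq]
    exact h1
  obtain ⟨P, hP⟩ := hQ2.exists_le_sylow
  -- `P` is a Sylow subgroup of `K`
  have hcard : Nat.card ((P : Subgroup (centralizer ({z} : Set K))).map
      (centralizer ({z} : Set K)).subtype) = 2 ^ (Nat.card K).factorization 2 := by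
    rw [card_map_of_injective (subtype_injective _), Sylow.card_eq_multiplicity]
    congr 1
    rw [← (centralizer ({z} : Set K)).card_mul_index, Nat.factorization_mul Nat.card_pos.ne'
      index_ne_zero_of_finite, Finsupp.add_apply, Nat.factorization_eq_zero_of_not_dvd
      (n := (centralizer ({z} : Set K)).index) (fun h1 => by
        have := Nat.odd_iff.1 ho
        omega), add_zero]
  refine ⟨Sylow.ofCard _ hcard, ?_, ?_, ?_⟩
  · exact ⟨⟨z, hQC h.z_mem⟩, hP h.z_mem, rfl⟩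
  · rintro _ ⟨x, hx, rfl⟩
    exact mem_centralizer_singleton_iff.1 x.2
  · rintro _ ⟨y, hy, rfl⟩ hc
    have hc' : ∀ q ∈ Q, q * (y : K) = y * q := fun q hq =>
      hc q ⟨⟨q, hQC hq⟩, hP hq, rfl⟩
    have h1 : (y : K) ∈ Q := h.self _ (mem_centralizer_singleton_iff.1 y.2)
      (fun q hq => (hc' q hq).symm)
    exact h.cent _ h1 (fun q hq => (hc' q hq).symm)

/-- **The row from `Large`.** -/
theorem row_of_large {K : Type*} [Group K] [Finite K] {Q : Subgroup K} {z : K} {L : Type*}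
    [Group L] (h : Large Q z) (hirr : Irr Q z) (ho : Odd (centralizer ({z} : Set K)).index)
    (π : centralizer ({z} : Set K) →* L) (hs : Function.Surjective π)
    (hk : ∀ c, π c = 1 ↔ (c : K) ∈ Q) {r : ℕ} (hr : r.Prime) (hr7 : 7 ≤ r) {x y : L}
    (hy : orderOf y = r) (hx : ∃ k : ℕ, orderOf x = 2 ^ k) (hxy : x * y * x⁻¹ = y⁻¹)
    (hgood : UGood 1 6 y) (hidx : ∀ H : Subgroup K, H ≠ ⊤ → 15 ≤ Nat.card (K ⧸ H)) :
    Cfsg.Agent.H409.FprRow 3 1 2 K := by
  have hQC : Q ≤ centralizer ({z} : Set K) := fun x hx =>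
    mem_centralizer_singleton_iff.2 (h.comm_z x hx)
  refine row_of_real (R := Q) h.z_sq (exists_sylow_large h ho) ?_ ?_ ?_ hQC π hs hk hr hr7 hy hx hxy
    hgood hidx
  · intro B hB hn
    exact hirr B hB fun g hg => hn g (mem_centralizer_singleton_iff.2 hg)
  · intro g hg hc
    exact h.self g (mem_centralizer_singleton_iff.1 hg) hc
  · rintro ⟨x, hx⟩
    refine ⟨2, Subtype.ext ?_⟩
    have h2 : x ^ 2 ^ 2 = (x * x) * (x * x) := by
      rw [show (2 : ℕ) ^ 2 = 2 * 2 by norm_num, pow_mul, pow_two, pow_two]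
    have h1 : x ^ 2 ^ 2 = 1 := by
      rw [h2]
      rcases h.sq _ hx with h3 | h3
      · rw [h3, mul_one]
      · rw [h3, h.z_sq]
    exact h1

end Cfsg.Agent.H435.Fpr
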