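import Cfsg.Agent.H435.Fpr.Sharp

/-!
# Elements of order `4` acting irreducibly on `C₃ × C₃`
-/

set_option autoImplicit false
open Subgroup MulAction
open scoped Pointwise

namespace Cfsg.Agent.H435.Fpr

open Cfsg.Agent.H398.FPR (fs mem_fs stCoset mem_stCoset CommFull Pair UGood commFull_of_free)

/-- `x` acts on `⟨a⟩ × ⟨b⟩ = C₃ × C₃` by `a ↦ b ↦ a⁻¹`. -/
theorem pairM_nine {G : Type*} [Group G] [Finite G] {x a b : G} (ha : a ^ 3 = 1) (ha1 : a ≠ 1)
    (hab : a * b = b * a) (h1 : x * a * x⁻¹ = b) (h2 : x * b * x⁻¹ = a⁻¹) :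
    PairM 9 x (zpowers a ⊔ zpowers b) := by
  have hb : b ^ 3 = 1 := by rw [← h1, conj_pow, ha, mul_one, mul_inv_cancel]
  have hcomm : ∀ (m : zpowers a) (n : zpowers b), Commute ((zpowers a).subtype m)
      ((zpowers b).subtype n) := by
    rintro ⟨_, i, rfl⟩ ⟨_, j, rfl⟩
    exact (Commute.zpow_zpow hab i j)
  let f := MonoidHom.noncommCoprod (zpowers a).subtype (zpowers b).subtype hcomm
  have hf : ∀ i j : ℤ, f (⟨a ^ i, i, rfl⟩, ⟨b ^ j, j, rfl⟩) = a ^ i * b ^ j := fun _ _ => rfl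
  have hR : f.range = zpowers a ⊔ zpowers b := by
    rw [MonoidHom.noncommCoprod_range, range_subtype, range_subtype]
  -- the parametrisation
  have hform : ∀ r ∈ zpowers a ⊔ zpowers b, ∃ i j : ℤ, a ^ i * b ^ j = r := by
    intro r hr
    rw [← hR] at hr
    obtain ⟨⟨⟨_, i, rfl⟩, ⟨_, j, rfl⟩⟩, rfl⟩ := hr
    exact ⟨i, j, rfl⟩
  have hcard : Nat.card (zpowers a ⊔ zpowers b : Subgroup G) ≤ 9 := by
    rw [← hR]
    have h3 : Nat.card f.range ≤ Nat.card (zpowers a × zpowers b) :=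
      Nat.card_le_card_of_surjective f.rangeRestrict f.rangeRestrict_surjective
    rw [Nat.card_prod, Nat.card_zpowers, Nat.card_zpowers] at h3
    have h4 := orderOf_le_of_pow_eq_one (by norm_num) ha
    have h5 := orderOf_le_of_pow_eq_one (by norm_num) hb
    exact h3.trans (Nat.mul_le_mul h4 h5)
  have hmul : ∀ r ∈ zpowers a ⊔ zpowers b, ∀ s ∈ zpowers a ⊔ zpowers b, r * s = s * r := by
    intro r hr s hs
    obtain ⟨i, j, rfl⟩ := hform r hr
    obtain ⟨k, l, rfl⟩ := hform s hs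
    have c1 : Commute (a ^ i) (a ^ k) := Commute.zpow_zpow_self a i k
    have c2 : Commute (a ^ i) (b ^ l) := Commute.zpow_zpow hab i l
    have c3 : Commute (b ^ j) (a ^ k) := (Commute.zpow_zpow hab k j).symm
    have c4 : Commute (b ^ j) (b ^ l) := Commute.zpow_zpow_self b j l
    exact Commute.mul_left (Commute.mul_right c1 c2) (Commute.mul_right c3 c4)
  have h3R : ∀ r ∈ zpowers a ⊔ zpowers b, r ^ 3 = 1 := by
    intro r hr
    obtain ⟨i, j, rfl⟩ := hform r hr
    have h3 : Commute (a ^ i) (b ^ j) := Commute.zpow_zpow hab i j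
    rw [h3.mul_pow, ← zpow_natCast, ← zpow_natCast, ← zpow_mul, ← zpow_mul, mul_comm i, mul_comm j,
      zpow_mul, zpow_mul, zpow_natCast, zpow_natCast, ha, hb, one_zpow, one_zpow, mul_one]
  -- the action of `x`
  have hx1 : ∀ i j : ℤ, x * (a ^ i * b ^ j) * x⁻¹ = a ^ (-j) * b ^ i := by
    intro i j
    have e1 : x * (a ^ i * b ^ j) * x⁻¹ = (x * a * x⁻¹) ^ i * (x * b * x⁻¹) ^ j := by
      rw [conj_zpow, conj_zpow]; group
    rw [e1, h1, h2, inv_zpow', (Commute.zpow_zpow hab (-j) i).eq]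
  have hxR : ∀ r ∈ zpowers a ⊔ zpowers b, x * r * x⁻¹ ∈ zpowers a ⊔ zpowers b := by
    intro r hr
    obtain ⟨i, j, rfl⟩ := hform r hr
    rw [hx1]
    exact mul_mem (mem_sup_left ⟨_, rfl⟩) (mem_sup_right ⟨_, rfl⟩)
  have hxx : ∀ r ∈ zpowers a ⊔ zpowers b, x * (x * r * x⁻¹) * x⁻¹ = r⁻¹ := by
    intro r hr
    obtain ⟨i, j, rfl⟩ := hform r hr
    rw [hx1, hx1, mul_inv_rev, ← zpow_neg, ← zpow_neg, (Commute.zpow_zpow hab (-i) (-j)).eq]
  have hxn : x ∈ normalizer ((zpowers a ⊔ zpowers b : Subgroup G) : Set G) := by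
    rw [mem_normalizer_iff]
    intro r
    refine ⟨hxR r, fun hr => ?_⟩
    obtain ⟨i, j, hij⟩ := hform _ hr
    have h4 := hx1 j (-i)
    rw [neg_neg, hij] at h4
    have h5 : a ^ j * b ^ (-i) = r := mul_left_cancel (mul_right_cancel h4)
    rw [← h5]
    exact mul_mem (mem_sup_left ⟨_, rfl⟩) (mem_sup_right ⟨_, rfl⟩)
  have hfree : ∀ r ∈ zpowers a ⊔ zpowers b, x * r * x⁻¹ = r → r = 1 := by
    intro r hr h
    have h4 := hxx r hr
    rw [h, h] at h4
    have h5 := h3R r hr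
    have h6 : r * r = 1 := by nth_rw 1 [h4]; exact inv_mul_cancel r
    rw [pow_succ, pow_two, h6, one_mul] at h5
    exact h5
  -- invariant subgroups
  have hinv : ∀ R1 : Subgroup G, R1 ≤ zpowers a ⊔ zpowers b → (∀ r ∈ R1, x * r * x⁻¹ ∈ R1) →
      R1 = ⊥ ∨ 9 ≤ Nat.card R1 := by
    intro R1 hR1 hxR1
    rw [or_iff_not_imp_left]
    intro hne
    obtain ⟨r, hr, hr1⟩ : ∃ r ∈ R1, r ≠ 1 := by
      obtain ⟨r, hr⟩ := (Subgroup.ne_bot_iff_exists_ne_one).1 hne
      exact ⟨(r : G), r.2, fun h => hr (Subtype.ext h)⟩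
    have h4 : IsPGroup 3 R1 := by
      rintro ⟨s, hs⟩
      exact ⟨1, Subtype.ext (h3R s (hR1 hs))⟩
    have : Fact (Nat.Prime 3) := ⟨by norm_num⟩
    obtain ⟨n, hn⟩ := (IsPGroup.iff_card).1 h4
    -- more than three elements
    have h5 : zpowers r < R1 := by
      apply lt_of_le_of_ne ((zpowers_le).2 hr)
      intro h6
      have h7 : x * r * x⁻¹ ∈ zpowers r := by rw [h6]; exact hxR1 r hr
      obtain ⟨i, hi⟩ := h7
      have hi' : r ^ i = x * r * x⁻¹ := hi
      have h8 := hxx r (hR1 hr)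
      rw [← hi', ← conj_zpow, ← hi', ← zpow_mul] at h8
      have h9 : r ^ (i * i + 1) = 1 := by rw [zpow_add, h8, zpow_one, inv_mul_cancel]
      have h10 : (orderOf r : ℤ) ∣ i * i + 1 := orderOf_dvd_iff_zpow_eq_one.2 h9
      have h11 : orderOf r = 3 := orderOf_eq_prime (h3R r (hR1 hr)) hr1
      rw [h11] at h10
      have h12 : i % 3 = 0 ∨ i % 3 = 1 ∨ i % 3 = 2 := by omega
      rcases h12 with h | h | h
      all_goals
        have h13 : (i * i + 1) % 3 = 0 := Int.emod_eq_zero_of_dvd h10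
        rw [Int.add_emod, Int.mul_emod, h] at h13
        norm_num at h13
    have h11 : orderOf r = 3 := orderOf_eq_prime (h3R r (hR1 hr)) hr1
    have h12 : 3 < Nat.card R1 := by
      have h13 := Subgroup.card_le_of_le h5.le
      rw [Nat.card_zpowers, h11] at h13
      rcases h13.lt_or_eq with h | h
      · exact h
      · exfalso
        apply h5.ne
        apply Subgroup.eq_of_le_of_card_ge h5.le
        rw [Nat.card_zpowers, h11, ← h]
    rw [hn] at h12 ⊢
    have h13 : 1 < n := by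
      by_contra h
      have h14 : 3 ^ n ≤ 3 ^ 1 := Nat.pow_le_pow_right (by norm_num) (by omega)
      omega
    calc 9 = 3 ^ 2 := by norm_num
      _ ≤ 3 ^ n := Nat.pow_le_pow_right (by norm_num) h13
  have h9 : 9 ≤ Nat.card (zpowers a ⊔ zpowers b : Subgroup G) := by
    rcases hinv _ le_rfl hxR with h | h
    · exfalso
      apply ha1
      have : a ∈ zpowers a ⊔ zpowers b := mem_sup_left (mem_zpowers a)
      rw [h, mem_bot] at this
      exact this
    · exact h
  refine ⟨?_, hxn, commFull_of_free hxR hfree, ?_⟩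
  · have : Fact (Nat.Prime 3) := ⟨by norm_num⟩
    have h4 : IsPGroup 3 (zpowers a ⊔ zpowers b : Subgroup G) := by
      rintro ⟨s, hs⟩
      exact ⟨1, Subtype.ext (h3R s hs)⟩
    exact h4.isNilpotent
  · intro R1 hR1 hxR1 _ _
    rcases hinv R1 hR1.le (fun r hr => (mem_normalizer_iff.1 hxR1 r).1 hr) with h | h
    · rw [h, card_bot]
      omega
    · exfalso
      apply hR1.ne
      exact Subgroup.eq_of_le_of_card_ge hR1.le (hcard.trans h)

end Cfsg.Agent.H435.Fpr
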