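import Cfsg.Agent.H435.Fpr.CenterFix
import Cfsg.Agent.H444.FprNorm

/-!
# The row `p = 2` of a group with a large extraspecial subgroup and a real element of order `r ≥ 7`
-/

set_option autoImplicit false
open Subgroup MulAction
open scoped Pointwise

namespace Cfsg.Agent.H435.Fpr

open Cfsg.Agent.H398.FPR (fs mem_fs UGood cset exists_cset_subgroup)

section Lift

variable {P L : Type*} [Group P] [Finite P] [Group L]

omit [Finite P] in
/-- lift of an element of odd prime order -/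
theorem exists_lift_prime {π : P →* L} (hs : Function.Surjective π) (hk : IsPGroup 2 π.ker) {r : ℕ}
    (hr : r.Prime) (hr2 : r ≠ 2) {y : L} (hy : orderOf y = r) : ∃ y' : P, π y' = y ∧ orderOf y' = r := by
  have : Fact r.Prime := ⟨hr⟩
  obtain ⟨y0, rfl⟩ := hs y
  have h1 : y0 ^ r ∈ π.ker := by
    rw [MonoidHom.mem_ker, map_pow, ← hy]
    exact pow_orderOf_eq_one _
  obtain ⟨m, hm⟩ := hk ⟨y0 ^ r, h1⟩
  have hm' : (y0 ^ r) ^ 2 ^ m = 1 := congrArg Subtype.val hm
  have h2 : 2 ^ (m * (r - 1)) % r = 1 := by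
    have h3 : (2 : ZMod r) ^ (r - 1) = 1 := by
      apply ZMod.pow_card_sub_one_eq_one
      intro h
      have h4 : ((2 : ℕ) : ZMod r) = 0 := by exact_mod_cast h
      rw [ZMod.natCast_eq_zero_iff] at h4
      have := (Nat.prime_dvd_prime_iff_eq hr Nat.prime_two).1 h4
      exact hr2 this
    have h4 : ((2 ^ (m * (r - 1)) : ℕ) : ZMod r) = ((1 : ℕ) : ZMod r) := by
      push_cast
      rw [mul_comm, pow_mul, h3, one_pow]
    rw [ZMod.natCast_eq_natCast_iff'] at h4
    rw [h4, Nat.mod_eq_of_lt hr.one_lt]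
  have h3 : π (y0 ^ 2 ^ (m * (r - 1))) = π y0 := by
    rw [map_pow, ← pow_mod_orderOf, hy, h2, pow_one]
  refine ⟨y0 ^ 2 ^ (m * (r - 1)), h3, ?_⟩
  apply orderOf_eq_prime
  · rw [← pow_mul, mul_comm, pow_mul]
    have h4 : 2 ^ m ∣ 2 ^ (m * (r - 1)) := by
      apply pow_dvd_pow
      have := hr.two_le
      exact Nat.le_mul_of_pos_right _ (by omega)
    obtain ⟨c, hc⟩ := h4
    rw [hc, pow_mul, hm', one_pow]
  · intro h
    rw [h, map_one] at h3
    rw [← h3, orderOf_one] at hy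
    exact hr.one_lt.ne hy

/-- lift of an inverting `2`-element -/
theorem exists_lift_real {π : P →* L} (hs : Function.Surjective π) (hk : IsPGroup 2 π.ker) {r : ℕ}
    (hr : r.Prime) (hr2 : r ≠ 2) {x y : L} (hy : orderOf y = r) (hx : ∃ k : ℕ, orderOf x = 2 ^ k)
    (hxy : x * y * x⁻¹ = y⁻¹) :
    ∃ x' y' : P, π y' = y ∧ orderOf y' = r ∧ (∃ k : ℕ, orderOf x' = 2 ^ k) ∧
      x' * y' * x'⁻¹ = y'⁻¹ := by
  have hrF : Fact r.Prime := ⟨hr⟩
  have h2F : Fact (Nat.Prime 2) := ⟨Nat.prime_two⟩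
  obtain ⟨y', hy', hyo⟩ := exists_lift_prime hs hk hr hr2 hy
  obtain ⟨x0, hx0⟩ := hs x
  -- the preimage `T` of `⟨y⟩`
  obtain ⟨T, hT⟩ : ∃ T : Subgroup P, T = (zpowers y).comap π := ⟨_, rfl⟩
  have hyT : y' ∈ T := by
    rw [hT, mem_comap, hy']
    exact mem_zpowers y
  have hcardT : Nat.card T = Nat.card π.ker * r := by
    let f : T →* zpowers y := (π.comp T.subtype).codRestrict (zpowers y) (by
      rintro ⟨t, ht⟩
      rw [hT] at ht
      exact ht)
    have hf : Function.Surjective f := by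
      rintro ⟨_, i, rfl⟩
      refine ⟨⟨y' ^ i, T.zpow_mem hyT i⟩, Subtype.ext ?_⟩
      change π (y' ^ i) = y ^ i
      rw [map_zpow, hy']
    have h1 := Subgroup.card_mul_index f.ker
    rw [index_ker, MonoidHom.range_eq_top.2 hf, Nat.card_congr (Subgroup.topEquiv).toEquiv,
      Nat.card_zpowers, hy] at h1
    rw [← h1]
    congr 1
    refine Nat.card_congr ⟨fun u => ⟨u.1.1, ?_⟩, fun u => ⟨⟨u.1, ?_⟩, ?_⟩, fun _ => rfl, fun _ => rfl⟩
    · have := u.2
      rw [MonoidHom.mem_ker] at this ⊢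
      exact congrArg Subtype.val this
    · rw [hT, mem_comap, show π u.1 = 1 from u.2]
      exact one_mem _
    · rw [MonoidHom.mem_ker]
      exact Subtype.ext u.2
  obtain ⟨m, hm⟩ := (IsPGroup.iff_card).1 hk
  -- Sylow subgroups of `T`
  have hrc : ∀ u : T, orderOf (u : P) = r → Nat.card (zpowers u) = r ^ (Nat.card T).factorization r := by
    intro u hu
    rw [hcardT, hm, Nat.factorization_mul (by positivity) hr.ne_zero, Nat.Prime.factorization_pow
      Nat.prime_two, Finsupp.add_apply, Nat.Prime.factorization_self hr,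
      Finsupp.single_eq_of_ne (by exact hr2), zero_add, pow_one, Nat.card_zpowers, ← hu]
    exact (Subgroup.orderOf_coe u).symm
  have hx0T : x0 * y' * x0⁻¹ ∈ T := by
    rw [hT, mem_comap, map_mul, map_mul, map_inv, hx0, hy', hxy]
    exact inv_mem (mem_zpowers y)
  let u1 : T := ⟨y', hyT⟩
  let u2 : T := ⟨x0 * y' * x0⁻¹, hx0T⟩
  have hu2 : orderOf (u2 : P) = r := by
    rw [← hyo]
    exact orderOf_injective (MulAut.conj x0).toMonoidHom (MulAut.conj x0).injective y'
  let S1 : Sylow r T := Sylow.ofCard (zpowers u1) (hrc u1 hyo)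
  let S2 : Sylow r T := Sylow.ofCard (zpowers u2) (hrc u2 hu2)
  obtain ⟨t, ht⟩ := MulAction.exists_smul_eq T S2 S1
  -- `t x0` normalises `⟨y'⟩`
  have h3 : t * u2 * t⁻¹ ∈ zpowers u1 := by
    have h4 : t * u2 * t⁻¹ ∈ (t • S2 : Sylow r T) := by
      change t * u2 * t⁻¹ ∈ ((t • S2 : Sylow r T) : Subgroup T)
      rw [Sylow.coe_subgroup_smul, mem_smul_pointwise_iff_exists]
      exact ⟨u2, mem_zpowers u2, rfl⟩
    rw [ht] at h4
    exact h4
  obtain ⟨i, hi⟩ := h3
  have hi' : y' ^ i = (t * x0) * y' * (t * x0)⁻¹ := by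
    have h4 : ((u1 ^ i : T) : P) = (t * u2 * t⁻¹ : T) := congrArg Subtype.val hi
    have h5 : ((u1 ^ i : T) : P) = y' ^ i := by
      rw [Subgroup.coe_zpow]
    have h6 : ((t * u2 * t⁻¹ : T) : P) = (t : P) * (x0 * y' * x0⁻¹) * (t : P)⁻¹ := rfl
    rw [h5, h6] at h4
    rw [h4]
    group
  have hTy : ∀ u ∈ T, π u ∈ zpowers y := by
    rw [hT]
    exact fun u hu => hu
  obtain ⟨j, hj⟩ : ∃ j : ℤ, y ^ j = π t := hTy _ t.2
  have hπx : π (t * x0) = y ^ j * x := by rw [map_mul, ← hj, hx0]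
  have hyj : x * y ^ j * x⁻¹ = y ^ (-j) := by
    rw [← conj_zpow, hxy, inv_zpow, zpow_neg]
  have hinv : (y ^ j * x) * y * (y ^ j * x)⁻¹ = y⁻¹ := by
    have h4 : (y ^ j * x) * y * (y ^ j * x)⁻¹ = y ^ j * (x * y * x⁻¹) * (y ^ j)⁻¹ := by group
    rw [h4, hxy]
    group
  refine ⟨t * x0, y', hy', hyo, ?_, ?_⟩
  · -- a `2`-element
    obtain ⟨k, hk'⟩ := hx
    have h4 : (y ^ j * x) ^ 2 = x ^ 2 := by
      have h5 : x * y ^ j = y ^ (-j) * x := by rw [← hyj]; group
      calc (y ^ j * x) ^ 2 = y ^ j * (x * y ^ j) * x := by rw [pow_two]; group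
        _ = y ^ j * (y ^ (-j) * x) * x := by rw [h5]
        _ = x ^ 2 := by rw [pow_two]; group
    have h5 : ((t * x0 : P)) ^ 2 ^ (k + 1) ∈ π.ker := by
      rw [MonoidHom.mem_ker, map_pow, hπx, pow_succ', pow_mul, h4, ← pow_mul, mul_comm, pow_mul,
        ← hk', pow_orderOf_eq_one, one_pow]
    obtain ⟨l, hl⟩ := hk ⟨_, h5⟩
    have hl' : (((t : P) * x0) ^ 2 ^ (k + 1)) ^ 2 ^ l = 1 := congrArg Subtype.val hl
    rw [← pow_mul, ← pow_add] at hl'
    obtain ⟨a, -, ha⟩ := (Nat.dvd_prime_pow Nat.prime_two).1 (orderOf_dvd_of_pow_eq_one hl')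
    exact ⟨a, ha⟩
  · -- inverts `y'`
    rw [← hi']
    have h4 : y ^ i = y⁻¹ := by
      have h5 := congrArg π hi'
      rw [map_zpow, hy', map_mul, map_mul, map_inv, hy', hπx, hinv] at h5
      exact h5
    have h5 : (orderOf y : ℤ) ∣ i + 1 := by
      rw [orderOf_dvd_iff_zpow_eq_one, zpow_add, h4, zpow_one, inv_mul_cancel]
    rw [hy, ← hyo, orderOf_dvd_iff_zpow_eq_one, zpow_add, zpow_one, mul_eq_one_iff_eq_inv] at h5
    exact h5

end Lift

section Growth

open Cfsg.Agent.H398.FPR (UGood.growth)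

/-- `|N : C|` for an element `y` of odd prime order acting nontrivially. -/
theorem card_cset_of_odd {K : Type*} [Group K] [Finite K] {N M : Subgroup K} [N.Normal]
    (hN2 : IsPGroup 2 N) (hM : IsCoatom M) (hNM : ¬ N ≤ M) {r : ℕ} (hr : r.Prime) (hr2 : r ≠ 2)
    {y : K} (hy : y ^ r = 1) (hne : ∃ t ∈ N, t⁻¹ * y * t * y⁻¹ ∉ M) :
    (r + 1) * (cset N (M ⊓ N) y).ncard ≤ Nat.card N := by
  classical
  have h2F : Fact (Nat.Prime 2) := ⟨Nat.prime_two⟩
  have hrF : Fact r.Prime := ⟨hr⟩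
  have hnil : Group.IsNilpotent N := hN2.isNilpotent
  obtain ⟨C, hC, hCN, hCst⟩ := exists_cset_subgroup hM hNM y
  have hmem : ∀ c, c ∈ C ↔ c ∈ N ∧ c⁻¹ * y * c * y⁻¹ ∈ M ⊓ N := by
    intro c
    rw [← SetLike.mem_coe, hC]
    rfl
  have hcC : (cset N (M ⊓ N) y).ncard = Nat.card C := by
    rw [← hC, ← Nat.card_coe_set_eq]
    rfl
  rw [hcC]
  have hNn : N.Normal := inferInstance
  have hDn : (M ⊓ N).Normal := Cfsg.Agent.H398.FPR.normal_inf_of_coatom hM hNM
  -- the action of `⟨y⟩` on `N / D`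
  let D : Subgroup N := (M ⊓ N).subgroupOf N
  have hD : D.Normal := by
    constructor
    intro d hd g
    rw [mem_subgroupOf] at hd ⊢
    exact hDn.conj_mem _ hd g
  let φ : MulAut N := MulAut.conjNormal y
  have hφ : ∀ t : N, ((φ t : N) : K) = y * t * y⁻¹ := fun t => MulAut.conjNormal_apply y t
  have hmap : D.map φ.toMonoidHom = D := by
    ext t
    constructor
    · rintro ⟨s, hs, rfl⟩
      rw [mem_subgroupOf]
      change ((φ s : N) : K) ∈ M ⊓ N
      rw [hφ]
      exact hDn.conj_mem _ hs y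
    · intro ht
      refine ⟨φ.symm t, ?_, φ.apply_symm_apply t⟩
      change ((φ.symm t : N) : K) ∈ M ⊓ N
      have h1 : ((φ.symm t : N) : K) = y⁻¹ * t * y⁻¹⁻¹ := by
        have h2 := hφ (φ.symm t)
        rw [φ.apply_symm_apply] at h2
        rw [h2]
        group
      rw [h1]
      exact hDn.conj_mem _ ht y⁻¹
  let σ : MulAut (N ⧸ D) := QuotientGroup.congr D D φ hmap
  have hσ : ∀ t : N, σ (t : N ⧸ D) = ((φ t : N) : N ⧸ D) := fun t => rfl
  have hφr : φ ^ r = 1 := by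
    have h2 : φ ^ r = MulAut.conjNormal (y ^ r) := (map_pow _ _ _).symm
    rw [h2, hy, map_one]
  have hσn : ∀ (n : ℕ) (t : N), (σ ^ n) (t : N ⧸ D) = (((φ ^ n) t : N) : N ⧸ D) := by
    intro n
    induction n with
    | zero => intro t; rfl
    | succ n ih =>
      intro t
      rw [pow_succ, pow_succ, MulAut.mul_apply, hσ, ih]
      rfl
  have hσr : σ ^ r = 1 := by
    apply MulEquiv.ext
    intro q
    obtain ⟨t, rfl⟩ := QuotientGroup.mk_surjective q
    rw [hσn, hφr]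
    rfl
  have hP : IsPGroup r (zpowers σ) := by
    rintro ⟨s, i, rfl⟩
    refine ⟨1, Subtype.ext ?_⟩
    change (σ ^ i) ^ r ^ 1 = 1
    rw [pow_one, ← zpow_natCast, ← zpow_mul, mul_comm, zpow_mul, zpow_natCast, hσr, one_zpow]
  have hmod := hP.card_modEq_card_fixedPoints (N ⧸ D)
  -- the fixed points
  have hfixC : ∀ t : N, ((t : N) : N ⧸ D) ∈ fixedPoints (zpowers σ) (N ⧸ D) ↔ (t : K) ∈ C := by
    intro t
    have h1 : ((t : N) : N ⧸ D) ∈ fixedPoints (zpowers σ) (N ⧸ D) ↔ σ (t : N ⧸ D) = (t : N ⧸ D) := by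
      constructor
      · intro h
        exact h ⟨σ, mem_zpowers σ⟩
      · rintro h ⟨_, i, rfl⟩
        have h2 : σ ∈ stabilizer (MulAut (N ⧸ D)) ((t : N) : N ⧸ D) := h
        have h3 := Subgroup.zpow_mem _ h2 i
        exact h3
    rw [h1, hσ, eq_comm, QuotientGroup.eq, hmem]
    have h2 : (t⁻¹ * φ t ∈ D) ↔ ((t : K)⁻¹ * (y * t * y⁻¹)) ∈ M ⊓ N := by
      rw [mem_subgroupOf]
      rw [Subgroup.coe_mul, Subgroup.coe_inv, hφ]
    rw [h2]
    have h3 : (t : K)⁻¹ * (y * t * y⁻¹) = (t : K)⁻¹ * y * t * y⁻¹ := by group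
    rw [h3]
    exact ⟨fun h => ⟨t.2, h⟩, fun h => h.2⟩
  -- counting
  have hDC : ∀ d : N, d ∈ D → (d : K) ∈ C := by
    intro d hd
    rw [← hfixC]
    have h1 : ((d : N) : N ⧸ D) = 1 := (QuotientGroup.eq_one_iff d).2 hd
    rw [h1]
    rintro ⟨s, hs⟩
    exact map_one s
  have hcount : Nat.card (fixedPoints (zpowers σ) (N ⧸ D)) * Nat.card D = Nat.card C := by
    let C' : Subgroup N := C.subgroupOf N
    have h1 : Nat.card C' = Nat.card C := Nat.card_congr (subgroupOfEquivOfLe hCN).toEquiv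
    have h2 : Nat.card (C'.map (QuotientGroup.mk' D)) = Nat.card (fixedPoints (zpowers σ) (N ⧸ D)) := by
      refine Nat.card_congr (Equiv.setCongr ?_)
      ext q
      obtain ⟨t, rfl⟩ := QuotientGroup.mk_surjective q
      constructor
      · rintro ⟨s, hs, hst⟩
        rw [← hst]
        exact (hfixC s).2 hs
      · intro h
        exact ⟨t, (hfixC t).1 h, rfl⟩
    rw [← h1, ← h2]
    let g : C' →* N ⧸ D := (QuotientGroup.mk' D).comp C'.subtype
    have h3 := Subgroup.card_mul_index g.ker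
    rw [index_ker] at h3
    rw [← h3, mul_comm]
    congr 1
    · refine Nat.card_congr ⟨fun u => ⟨⟨u.1, hDC u.1 u.2⟩, ?_⟩, fun u => ⟨u.1.1, ?_⟩, fun _ => rfl,
        fun _ => rfl⟩
      · rw [MonoidHom.mem_ker]
        exact (QuotientGroup.eq_one_iff u.1).2 u.2
      · exact (QuotientGroup.eq_one_iff u.1.1).1 u.2
    · congr 1
      refine congrArg _ ?_
      ext q
      constructor
      · rintro ⟨s, hs, rfl⟩
        exact ⟨⟨s, hs⟩, rfl⟩
      · rintro ⟨s, rfl⟩
        exact ⟨s.1, s.2, rfl⟩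
  have hcardN : Nat.card (N ⧸ D) * Nat.card D = Nat.card N :=
    (Subgroup.card_eq_card_quotient_mul_card_subgroup D).symm
  have hmod2 : Nat.card N ≡ Nat.card C [MOD r] := by
    rw [← hcardN, ← hcount]
    exact Nat.ModEq.mul_right _ hmod
  -- `C` is a proper subgroup
  have hCne : C ≠ N := by
    rintro h
    obtain ⟨t, ht, ht2⟩ := hne
    rw [← h] at ht
    exact ht2 (mem_inf.1 ((hmem t).1 ht).2).1
  have hdvd : Nat.card C ∣ Nat.card N := card_dvd_of_le hCN
  obtain ⟨c, hc⟩ := hdvd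
  have hcpos : 0 < Nat.card C := Nat.card_pos
  have hc1 : c ≠ 1 := by
    rintro rfl
    rw [mul_one] at hc
    exact hCne (Subgroup.eq_of_le_of_card_ge hCN hc.le)
  have hc0 : c ≠ 0 := by
    rintro rfl
    rw [mul_zero] at hc
    exact absurd hc Nat.card_pos.ne'
  -- `c ≡ 1` modulo `r`
  have hcop : Nat.Coprime (Nat.card C) r := by
    obtain ⟨n, hn⟩ := (IsPGroup.iff_card).1 hN2
    have h1 : Nat.card C ∣ 2 ^ n := by
      rw [← hn]
      exact card_dvd_of_le hCN
    exact Nat.Coprime.coprime_dvd_left h1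
      (((Nat.coprime_primes Nat.prime_two hr).2 hr2.symm).pow_left n)
  have hcmod : c ≡ 1 [MOD r] := by
    rw [hc] at hmod2
    have h1 : Nat.card C * c ≡ Nat.card C * 1 [MOD r] := by rwa [mul_one]
    exact Nat.ModEq.cancel_left_of_coprime (by rwa [Nat.gcd_comm]) h1
  have hge : r + 1 ≤ c := by
    have h1 : 1 < c := by omega
    have h2 : r ∣ c - 1 := (Nat.modEq_iff_dvd' h1.le).1 hcmod.symm
    have h3 := Nat.le_of_dvd (by omega) h2
    omega
  rw [hc, mul_comm]
  exact Nat.mul_le_mul_left _ hge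

end Growth

section Row

open Cfsg.Agent.H398.FPR (UGood.growth)

/-- **`p = 2`: a large extraspecial subgroup and a real element of order `r ≥ 7`.** -/
theorem row_of_real {S : Type*} [Group S] [Finite S] {z : S} {R : Subgroup S} {L : Type*} [Group L]
    (hzz : z * z = 1)
    (hsyl : ∃ T : Sylow 2 S, z ∈ T ∧ (∀ x ∈ T, x * z = z * x) ∧
      ∀ y ∈ T, (∀ x ∈ T, x * y = y * x) → y = 1 ∨ y = z)
    (hmin : ∀ B : Subgroup S, B ≤ R →
      (∀ x ∈ centralizer ({z} : Set S), ∀ b ∈ B, x * b * x⁻¹ ∈ B) →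
      (∀ b ∈ B, b = 1 ∨ b = z) ∨ B = R)
    (hcR : ∀ x ∈ centralizer ({z} : Set S), (∀ r ∈ R, x * r = r * x) → x ∈ R)
    (hR2 : IsPGroup 2 R) (hRP : R ≤ centralizer ({z} : Set S))
    (π : centralizer ({z} : Set S) →* L) (hs : Function.Surjective π)
    (hk : ∀ c, π c = 1 ↔ (c : S) ∈ R) {r : ℕ} (hr : r.Prime) (hr7 : 7 ≤ r) {x y : L}
    (hy : orderOf y = r) (hx : ∃ k : ℕ, orderOf x = 2 ^ k) (hxy : x * y * x⁻¹ = y⁻¹)
    (hgood : UGood 1 6 y) (hidx : ∀ H : Subgroup S, H ≠ ⊤ → 15 ≤ Nat.card (S ⧸ H)) :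
    Cfsg.Agent.H409.FprRow 3 1 2 S := by
  have h2F : Fact (Nat.Prime 2) := ⟨Nat.prime_two⟩
  have hrF : Fact r.Prime := ⟨hr⟩
  have hr2 : r ≠ 2 := by omega
  have hN2 : IsPGroup 2 π.ker := by
    rintro ⟨c, hc⟩
    obtain ⟨k, hk'⟩ := hR2 ⟨(c : S), (hk c).1 hc⟩
    have h : (c : S) ^ 2 ^ k = 1 := congrArg Subtype.val hk'
    exact ⟨k, Subtype.ext (Subtype.ext h)⟩
  obtain ⟨x', y', hy', hyo, hxo, hxy'⟩ := exists_lift_real hs hN2 hr hr2 hy hx hxy
  have hyr : y' ^ r = 1 := by rw [← hyo]; exact pow_orderOf_eq_one _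
  have hnil : Group.IsNilpotent π.ker := hN2.isNilpotent
  -- the uniform bound for `y'` in `C(z)`
  have hU : UGood 1 6 y' := by
    refine UGood.growth (N := π.ker) π hs rfl (by rw [hy']; exact hgood) ?_
    intro M hM hNM hn _
    rw [one_mul]
    refine le_trans (Nat.mul_le_mul_right _ (show 6 ≤ r + 1 by omega)) ?_
    refine card_cset_of_odd hN2 hM hNM hr hr2 hyr ?_
    by_contra hcon
    push Not at hcon
    -- `M ∩ N ≤ ⟨z⟩`
    have hD : (∀ b ∈ (M ⊓ π.ker).map (centralizer ({z} : Set S)).subtype, b = 1 ∨ b = z) ∨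
        (M ⊓ π.ker).map (centralizer ({z} : Set S)).subtype = R := by
      apply hmin
      · rintro _ ⟨c, hc, rfl⟩
        exact (hk c).1 (mem_inf.1 hc).2
      · rintro u hu _ ⟨c, hc, rfl⟩
        exact ⟨⟨u, hu⟩ * c * ⟨u, hu⟩⁻¹, hn.conj_mem c hc _, rfl⟩
    rcases hD with hD | hD
    · -- `y'` centralizes `R`
      have hc : ∀ t : centralizer ({z} : Set S), t ∈ π.ker → y' * t * y'⁻¹ = t := by
        intro t ht
        obtain ⟨c, hc⟩ : ∃ c, c = t⁻¹ * y' * t * y'⁻¹ := ⟨_, rfl⟩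
        have h1 : c ∈ M ⊓ π.ker := by
          refine mem_inf.2 ⟨by rw [hc]; exact hcon t ht, ?_⟩
          have h2 : c = t⁻¹ * (y' * t * y'⁻¹) := by rw [hc]; group
          rw [h2]
          exact mul_mem (inv_mem ht) ((inferInstance : π.ker.Normal).conj_mem t ht y')
        have h2 := hD _ ⟨c, h1, rfl⟩
        have hcc : c * c = 1 := by
          apply Subtype.ext
          rcases h2 with h2 | h2
          · have h3 : (c : S) = 1 := h2
            change (c : S) * c = 1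
            rw [h3, mul_one]
          · have h3 : (c : S) = z := h2
            change (c : S) * c = 1
            rw [h3, hzz]
        have hcy : y' * c * y'⁻¹ = c := by
          apply Subtype.ext
          change (y' : S) * c * (y' : S)⁻¹ = c
          rcases h2 with h2 | h2
          · have h3 : (c : S) = 1 := h2
            rw [h3, mul_one, mul_inv_cancel]
          · have h3 : (c : S) = z := h2
            rw [h3, mul_inv_eq_iff_eq_mul]
            exact mem_centralizer_singleton_iff.1 y'.2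
        have h3 : y' * t * y'⁻¹ = t * c := by rw [hc]; group
        have h4 : ∀ n : ℕ, y' ^ n * t * (y' ^ n)⁻¹ = t * c ^ n := by
          intro n
          induction n with
          | zero => simp
          | succ n ih =>
            calc y' ^ (n + 1) * t * (y' ^ (n + 1))⁻¹ = y' * (y' ^ n * t * (y' ^ n)⁻¹) * y'⁻¹ := by
                  rw [pow_succ']; group
              _ = y' * (t * c ^ n) * y'⁻¹ := by rw [ih]
              _ = (y' * t * y'⁻¹) * (y' * c * y'⁻¹) ^ n := by rw [conj_pow]; group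
              _ = t * c ^ (n + 1) := by rw [h3, hcy, pow_succ', mul_assoc]
        have h5 := h4 r
        rw [hyr, one_mul, inv_one, mul_one, left_eq_mul] at h5
        have h6 : c = 1 := by
          obtain ⟨m, hm⟩ := (hr.odd_of_ne_two hr2)
          rw [hm, pow_succ, pow_mul, pow_two, hcc, one_pow, one_mul] at h5
          exact h5
        rw [h3, h6, mul_one]
      have h1 : (y' : S) ∈ R := by
        apply hcR _ y'.2
        intro t ht
        have h2 := hc ⟨t, hRP ht⟩ ((hk ⟨t, hRP ht⟩).2 ht)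
        rw [mul_inv_eq_iff_eq_mul] at h2
        exact congrArg Subtype.val h2
      have h2 : π y' = 1 := (hk y').2 h1
      rw [hy'] at h2
      rw [h2, orderOf_one] at hy
      omega
    · apply hNM
      intro c hc
      have h1 : (c : S) ∈ (M ⊓ π.ker).map (centralizer ({z} : Set S)).subtype := by
        rw [hD]
        exact (hk c).1 hc
      obtain ⟨c', hc', h2⟩ := h1
      have h3 : c' = c := Subtype.ext h2
      rw [← h3]
      exact (mem_inf.1 hc').1
  -- the bound for `H`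
  obtain ⟨T, hzT, hTz, hTc⟩ := hsyl
  intro H hH
  have hxo' : ∃ k : ℕ, orderOf (x' : S) = 2 ^ k := by
    obtain ⟨k, hk'⟩ := hxo
    exact ⟨k, by rw [Subgroup.orderOf_coe]; exact hk'⟩
  refine ⟨(x' : S), hxo', ?_⟩
  have hc1 : (fs (centralizer {z}) (S ⧸ H)).ncard ≤ 1 := by
    apply ncard_fs_centralizer_le_one T
    · intro t ht
      exact mem_centralizer_singleton_iff.2 (hTz t ht)
    · intro w hw hwc
      by_cases hz1 : z = 1
      · rw [hz1] at hw ⊢
        exact (isConj_one_right.1 hw)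
      · have hzo : orderOf z = 2 := orderOf_eq_prime (by rw [pow_two, hzz]) hz1
        have hwo : orderOf w = 2 := by
          obtain ⟨c, rfl⟩ := isConj_iff.1 hw
          rw [← hzo]
          exact orderOf_injective (MulAut.conj c).toMonoidHom (MulAut.conj c).injective z
        have hwT : w ∈ T := mem_sylow_of_comm T ⟨1, by rw [hwo]; norm_num⟩ hwc
        rcases hTc w hwT hwc with h | h
        · exfalso
          rw [h, orderOf_one] at hwo
          norm_num at hwo
        · exact h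
  have h1 := bound_of_uGood y'.2 hU (X := S ⧸ H)
  have hn := hidx H hH
  -- the count for `x'`
  have hinv : ∀ i : ℤ, (x' : S) * (y' : S) ^ i * (x' : S)⁻¹ = (y' : S) ^ (-i) := by
    intro i
    have h2 : (x' : S) * y' * (x' : S)⁻¹ = (y' : S)⁻¹ := congrArg Subtype.val hxy'
    rw [← conj_zpow, h2, inv_zpow, zpow_neg]
  have hyS : orderOf (y' : S) = r := by rw [Subgroup.orderOf_coe]; exact hyo
  have h2 := Cfsg.Agent.H444.Fpr.one_rad' (X := S ⧸ H) (R := zpowers (y' : S)) (x := (x' : S))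
    (by
      rintro _ ⟨i, rfl⟩
      change (x' : S) * (y' : S) ^ i * (x' : S)⁻¹ ∈ _
      rw [hinv]
      exact ⟨-i, rfl⟩)
    (by
      rintro _ ⟨i, rfl⟩ h
      change (x' : S) * (y' : S) ^ i = (y' : S) ^ i * (x' : S) at h
      change (y' : S) ^ i = 1
      have h3 := hinv i
      rw [h, mul_inv_cancel_right] at h3
      have h4 : (y' : S) ^ (2 * i) = 1 := by
        rw [two_mul, zpow_add]
        nth_rw 1 [h3]
        rw [← zpow_add, neg_add_cancel, zpow_zero]
      rw [← orderOf_dvd_iff_zpow_eq_one, hyS] at h4 ⊢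
      have h5 : IsCoprime (r : ℤ) 2 := by
        rw [Int.isCoprime_iff_gcd_eq_one]
        change Nat.gcd r 2 = 1
        exact (Nat.coprime_primes hr Nat.prime_two).2 hr2
      exact h5.dvd_of_dvd_mul_left h4)
    (m := r) (by
      rintro ω - ⟨w, hw, hne⟩
      have h3 : Nat.card (orbit (zpowers (y' : S)) ω) ∣ Nat.card (zpowers (y' : S)) := by
        rw [Nat.card_congr (orbitEquivQuotientStabilizer (zpowers (y' : S)) ω)]
        exact Subgroup.card_quotient_dvd_card _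
      rw [Nat.card_zpowers, hyS] at h3
      rcases (Nat.dvd_prime hr).1 h3 with h4 | h4
      · exfalso
        rw [Nat.card_eq_one_iff_unique] at h4
        obtain ⟨hsub, -⟩ := h4
        have h5 : (⟨w • ω, ⟨⟨w, hw⟩, rfl⟩⟩ : orbit (zpowers (y' : S)) ω) = ⟨ω, mem_orbit_self ω⟩ :=
          hsub.elim _ _
        exact hne (congrArg Subtype.val h5)
      · exact h4.ge)
  have h3 : Nat.card (fixedBy (S ⧸ H) (x' : S)) ≤ Nat.card (fixedBy (S ⧸ H) (y' : S)) +
      {ω : S ⧸ H | (x' : S) • ω = ω ∧ ∃ y ∈ zpowers (y' : S), y • ω ≠ ω}.ncard := by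
    have h4 : fixedBy (S ⧸ H) (x' : S) ⊆ fixedBy (S ⧸ H) (y' : S) ∪
        {ω : S ⧸ H | (x' : S) • ω = ω ∧ ∃ y ∈ zpowers (y' : S), y • ω ≠ ω} := by
      intro ω hω
      by_cases h5 : (y' : S) • ω = ω
      · exact Or.inl h5
      · exact Or.inr ⟨hω, y', mem_zpowers _, h5⟩
    have h5 := (Set.ncard_le_ncard h4 (Set.toFinite _)).trans (Set.ncard_union_le _ _)
    rw [Nat.card_coe_set_eq, Nat.card_coe_set_eq]
    exact h5
  have h4 : Nat.card (fixedBy (S ⧸ H) (y' : S)) ≤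
      {ω : S ⧸ H | ∀ y ∈ zpowers (y' : S), y • ω = ω}.ncard := by
    rw [Nat.card_coe_set_eq]
    apply Set.ncard_le_ncard _ (Set.toFinite _)
    intro ω hω w hw
    have h5 : zpowers (y' : S) ≤ stabilizer S ω := by
      rw [zpowers_le]
      exact hω
    exact h5 hw
  have h5 : 7 * {ω : S ⧸ H | (x' : S) • ω = ω ∧ ∃ y ∈ zpowers (y' : S), y • ω ≠ ω}.ncard ≤
      r * {ω : S ⧸ H | (x' : S) • ω = ω ∧ ∃ y ∈ zpowers (y' : S), y • ω ≠ ω}.ncard :=
    Nat.mul_le_mul_right _ hr7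
  omega

end Row

end Cfsg.Agent.H435.Fpr
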